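import Cfsg.Agent.Lib.Perm.ZasAbelian.Iso
import Cfsg.Agent.S0738
import Cfsg.Agent.S0741

/-!
# Zassenhaus groups with abelian kernel
-/

set_option autoImplicit false
set_option linter.style.haveILetI false

namespace Cfsg.Lib.Perm.ZasAbelian

open Cfsg Cfsg.Lib.Char

variable {G Ω : Type*} [Group G] [Finite G] [MulAction G Ω] [Fintype Ω]

/-- The kernel from a regular normal subgroup of a point stabilizer. -/
theorem kernel_of_regular {a : Ω} (F : Subgroup G) (hFle : F ≤ MulAction.stabilizer G a)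
    (hreg : ∀ y z : Ω, y ≠ a → z ≠ a → ∃! u : F, (u : G) • y = z) {b : Ω} (hab : a ≠ b) :
    Nat.card F + 1 = Fintype.card Ω ∧ ∀ u ∈ F, u ≠ 1 → ∀ c : Ω, u • c = c → c = a := by
  classical
  have hbij : Function.Bijective (fun u : F => (⟨(u : G) • b, fun e => hab (by
      have hua : (u : G) • a = a := hFle u.2
      exact MulAction.injective (u : G) (hua.trans e.symm))⟩ : {c : Ω // c ≠ a})) := by
    refine ⟨fun u v huv => ?_, fun c => ?_⟩
    · obtain ⟨w, -, hw⟩ := hreg b ((u : G) • b) (Ne.symm hab) (fun e => hab (by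
        have hua : (u : G) • a = a := hFle u.2
        exact MulAction.injective (u : G) (hua.trans e.symm)))
      exact (hw u rfl).trans (hw v (congrArg Subtype.val huv).symm).symm
    · obtain ⟨u, hu, -⟩ := hreg b c.1 (Ne.symm hab) c.2
      exact ⟨u, Subtype.ext hu⟩
  refine ⟨?_, fun u hu hu1 c hc => ?_⟩
  · rw [Nat.card_congr (Equiv.ofBijective _ hbij), Nat.card_eq_fintype_card, Fintype.card_subtype_compl,
      Fintype.card_subtype_eq]
    have : 0 < Fintype.card Ω := Fintype.card_pos_iff.mpr ⟨a⟩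
    omega
  · by_contra hca
    obtain ⟨w, -, hw⟩ := hreg c c hca hca
    exact hu1 (congrArg Subtype.val ((hw ⟨u, hu⟩ hc).trans (hw 1 (by simp)).symm))

/-- At most two orbits of the two-point stabilizer on the other points. -/
theorem two_orbits (hZ : IsZassenhausGroup G Ω) {a b : Ω} (hab : a ≠ b)
    (hle : Fintype.card Ω - 2 ≤ 2 * Nat.card ↥(MulAction.stabilizer G a ⊓ MulAction.stabilizer G b : Subgroup G)) :
    Fintype.card Ω - 2 = 2 * Nat.card ↥(MulAction.stabilizer G a ⊓ MulAction.stabilizer G b : Subgroup G) ∨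
      ∀ c d : Ω, c ≠ a → c ≠ b → d ≠ a → d ≠ b →
        ∃ g : G, g • a = a ∧ g • b = b ∧ g • c = d := by
  classical
  haveI := Fintype.ofFinite G
  refine or_iff_not_imp_right.mpr fun hne => ?_
  push Not at hne
  obtain ⟨c, d, hca, hcb, hda, hdb, hcd⟩ := hne
  set D : Subgroup G := MulAction.stabilizer G a ⊓ MulAction.stabilizer G b with hD
  let S := Finset.univ.filter fun g : G => g ∈ D
  have hS : S.card = Nat.card D := by rw [← Fintype.card_subtype, ← Nat.card_eq_fintype_card]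
  have hcard : ∀ y : Ω, y ≠ a → y ≠ b → (S.image fun g => g • y).card = Nat.card D := by
    intro y hya hyb
    rw [← hS]
    refine Finset.card_image_of_injOn fun g hg k hk hgk => ?_
    have hg' := (Finset.mem_filter.mp hg).2
    have hk' := (Finset.mem_filter.mp hk).2
    have hm : k⁻¹ * g ∈ D := D.mul_mem (D.inv_mem hk') hg'
    exact (inv_mul_eq_one.mp (hZ.2.2.1 _ a b y hab hyb.symm hya.symm hm.1 hm.2
      (by rw [mul_smul, show g • y = k • y from hgk, inv_smul_smul]))).symm
  have hdisj : Disjoint (S.image fun g => g • c) (S.image fun g => g • d) := by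
    rw [Finset.disjoint_left]
    intro y hy hy'
    obtain ⟨g, hg, rfl⟩ := Finset.mem_image.mp hy
    obtain ⟨k, hk, hgk⟩ := Finset.mem_image.mp hy'
    have hm : k⁻¹ * g ∈ D := D.mul_mem (D.inv_mem (Finset.mem_filter.mp hk).2) (Finset.mem_filter.mp hg).2
    exact hcd (k⁻¹ * g) hm.1 hm.2 (by rw [mul_smul, ← hgk, inv_smul_smul])
  have hsub : (S.image fun g => g • c) ∪ (S.image fun g => g • d) ⊆
      ((Finset.univ : Finset Ω).erase a).erase b := by
    have h0 : ∀ y : Ω, y ≠ a → y ≠ b → ∀ g ∈ S, g • y ≠ a ∧ g • y ≠ b := by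
      intro y hya hyb g hg
      obtain ⟨hga, hgb⟩ := (Finset.mem_filter.mp hg).2
      exact ⟨fun e => hya (MulAction.injective g (e.trans (show g • a = a from hga).symm)),
        fun e => hyb (MulAction.injective g (e.trans (show g • b = b from hgb).symm))⟩
    intro y hy
    rcases Finset.mem_union.mp hy with hy | hy <;> obtain ⟨g, hg, rfl⟩ := Finset.mem_image.mp hy
    · exact Finset.mem_erase.mpr ⟨(h0 c hca hcb g hg).2, Finset.mem_erase.mpr ⟨(h0 c hca hcb g hg).1, Finset.mem_univ _⟩⟩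
    · exact Finset.mem_erase.mpr ⟨(h0 d hda hdb g hg).2, Finset.mem_erase.mpr ⟨(h0 d hda hdb g hg).1, Finset.mem_univ _⟩⟩
  have h1 := Finset.card_le_card hsub
  rw [Finset.card_union_of_disjoint hdisj, hcard c hca hcb, hcard d hda hdb,
    Finset.card_erase_of_mem (Finset.mem_erase.mpr ⟨hab.symm, Finset.mem_univ _⟩),
    Finset.card_erase_of_mem (Finset.mem_univ _), Finset.card_univ] at h1
  omega

variable (hZ : IsZassenhausGroup G Ω) {a b : Ω} (hab : a ≠ b) (H : Subgroup G)
  (hHa : H ≤ MulAction.stabilizer G a) (hHcard : Nat.card H + 1 = Fintype.card Ω)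
  (hHfix : ∀ u ∈ H, u ≠ 1 → ∀ c : Ω, u • c = c → c = a)
  (hHn : (H.subgroupOf (MulAction.stabilizer G a)).Normal)
  (hreg : ∀ y z : Ω, y ≠ a → z ≠ a → ∃! u : H, (u : G) • y = z)

include hZ hab hHa hHcard hHfix hHn hreg

/-- Two orbits: the group is `PSL(2, q)`. -/
theorem psl_of_two_orbits
    (hd : Fintype.card Ω - 2 = 2 * Nat.card ↥(MulAction.stabilizer G a ⊓ MulAction.stabilizer G b : Subgroup G)) :
    ∃ (p f : ℕ) (K : Type) (_ : Field K) (_ : Fintype K), p.Prime ∧ p ≠ 2 ∧ Fintype.card K = p ^ f ∧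
      Fintype.card Ω = p ^ f + 1 ∧ ringChar K ≠ 2 ∧
      Nonempty (G ≃* Matrix.ProjectiveSpecialLinearGroup (Fin 2) K) := by
  obtain ⟨hcomm, p, f, hp, -, hcard⟩ := Cfsg.Agent.S0738.result hZ hab hd.le H hHa hHn hreg
  have hc : ∀ x ∈ H, ∀ y ∈ H, x * y = y * x := fun x hx y hy =>
    congrArg Subtype.val (hcomm.is_comm.comm (⟨x, hx⟩ : H) ⟨y, hy⟩)
  have h2 := zas_two_lt_card hZ
  have hf : f ≠ 0 := by rintro rfl; rw [pow_zero] at hcard; omega
  have hp2 : p ≠ 2 := by
    rintro rfl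
    obtain ⟨j, hj⟩ : 2 ∣ 2 ^ f := dvd_pow_self _ hf
    omega
  haveI := Fact.mk hp
  haveI : Fintype (GaloisField p f) := Fintype.ofFinite _
  have hK : Fintype.card (GaloisField p f) = p ^ f := by
    rw [← Nat.card_eq_fintype_card, GaloisField.card p f hf]
  have hK2 : ringChar (GaloisField p f) ≠ 2 := by rwa [ringChar.eq (GaloisField p f) p]
  exact ⟨p, f, GaloisField p f, inferInstance, inferInstance, hp, hp2, hK, hcard, hK2,
    iso_psl hZ hab hd H hHa hHcard hHfix hc (GaloisField p f) hK2 (by omega)⟩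

end Cfsg.Lib.Perm.ZasAbelian
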