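import Cfsg.Agent.Lib.Char.ZassenhausOdd
import Cfsg.Agent.Lib.Char.Ito
import Cfsg.Agent.S0851
import Cfsg.Agent.S0881
import Cfsg.Agent.S0884

/-!
# Zassenhaus groups with abelian kernel and two-point stabilizers of odd order: the bound `h - 1 ≤ 2e`
-/

set_option autoImplicit false
set_option linter.style.haveILetI false

namespace Cfsg.Lib.Perm.ZasAbelian

open Cfsg Cfsg.Lib.Char
open scoped ComplexConjugate

section Kernel

variable {G Ω : Type*} [Group G] [Finite G] [MulAction G Ω] [Fintype Ω]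
  (hZ : IsZassenhausGroup G Ω) {a b : Ω} (hab : a ≠ b) (H : Subgroup G)
  (hHa : H ≤ MulAction.stabilizer G a) (hHcard : Nat.card H + 1 = Fintype.card Ω)
  (hHfix : ∀ u ∈ H, u ≠ 1 → ∀ c : Ω, u • c = c → c = a)

include hab hHa hHcard hHfix

theorem kernel_transitive {c : Ω} (hc : c ≠ a) : ∃ u ∈ H, u • b = c := by
  classical
  haveI := Fintype.ofFinite G
  have hbij : Function.Bijective (fun u : H => (⟨(u : G) • b, fun e => hab (by
      have hua : (u : G) • a = a := hHa u.2
      exact MulAction.injective (u : G) (hua.trans e.symm))⟩ : {c : Ω // c ≠ a})) := by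
    refine (Fintype.bijective_iff_injective_and_card _).mpr ⟨fun u v huv => ?_, ?_⟩
    · have e : (u : G) • b = (v : G) • b := congrArg Subtype.val huv
      by_contra hne
      refine hab (hHfix ((v : G)⁻¹ * u) (H.mul_mem (H.inv_mem v.2) u.2) (fun h =>
        hne (Subtype.ext (inv_mul_eq_one.mp h).symm)) b ?_).symm
      rw [mul_smul, e, inv_smul_smul]
    · rw [Fintype.card_subtype_compl, Fintype.card_subtype_eq, ← Nat.card_eq_fintype_card]
      omega
  obtain ⟨u, hu⟩ := hbij.2 ⟨c, hc⟩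
  exact ⟨u, u.2, congrArg Subtype.val hu⟩

/-- The point stabilizer is the product of the kernel and the two-point stabilizer. -/
theorem stab_decomp {x : G} (hx : x • a = a) :
    ∃ u ∈ H, ∃ d ∈ (MulAction.stabilizer G a ⊓ MulAction.stabilizer G b : Subgroup G), x = u * d := by
  have hxb : x • b ≠ a := fun e => hab (MulAction.injective x (hx.trans e.symm))
  obtain ⟨u, hu, hub⟩ := kernel_transitive hab H hHa hHcard hHfix hxb
  refine ⟨u, hu, u⁻¹ * x, ⟨?_, ?_⟩, by group⟩
  · exact (MulAction.stabilizer G a).mul_mem ((MulAction.stabilizer G a).inv_mem (hHa hu)) hx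
  · show (u⁻¹ * x) • b = b
    rw [mul_smul, inv_smul_eq_iff, hub]

include hZ in
/-- An abelian kernel contains the centralizers of its nontrivial elements. -/
theorem centralizer_le (hHc : ∀ x ∈ H, ∀ y ∈ H, x * y = y * x) {k : G} (hk : k ∈ H) (hk1 : k ≠ 1) :
    Subgroup.centralizer ({k} : Set G) ≤ H := by
  intro x hx
  have hxk : x * k = k * x := Subgroup.mem_centralizer_singleton_iff.mp hx
  have hka : k • a = a := hHa hk
  have hxa : x • a = a := hHfix k hk hk1 _ (by rw [← mul_smul, ← hxk, mul_smul, hka])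
  obtain ⟨u, hu, d, ⟨hda, hdb⟩, rfl⟩ := stab_decomp hab H hHa hHcard hHfix hxa
  have hda : d • a = a := hda
  have hdb : d • b = b := hdb
  have hdk : d * k = k * d := by
    have h1 : u * (d * k) = u * (k * d) := by
      rw [← mul_assoc, hxk, ← mul_assoc, ← mul_assoc, ← hHc u hu k hk]
    exact mul_left_cancel h1
  have hkb : k • b ≠ b := fun e => hab (hHfix k hk hk1 b e).symm
  have hkba : k • b ≠ a := fun e => hab (MulAction.injective k (hka.trans e.symm))
  have hd1 : d = 1 := hZ.2.2.1 d a b (k • b) hab (Ne.symm hkb) (Ne.symm hkba) hda hdb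
    (by rw [← mul_smul, hdk, mul_smul, hdb])
  rw [hd1, mul_one]
  exact hu

end Kernel

open Classical in
/-- The permutation character of a Zassenhaus group has norm two. -/
theorem norm_indFun_one {G Ω : Type*} [Group G] [Fintype G] [MulAction G Ω] [Fintype Ω]
    (hZ : IsZassenhausGroup G Ω) {a b : Ω} (hab : a ≠ b) :
    classInner (indFun (MulAction.stabilizer G a) fun _ => (1 : ℂ))
      (indFun (MulAction.stabilizer G a) fun _ => (1 : ℂ)) = 2 := by
  set A : Subgroup G := MulAction.stabilizer G a with hA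
  haveI := Fintype.ofFinite A
  set e := Nat.card ↥(MulAction.stabilizer G a ⊓ MulAction.stabilizer G b : Subgroup G) with he
  obtain ⟨hA1, hG⟩ := zas_card_group hZ hab
  rw [← hA, ← he] at hA1
  have hpt : ∀ x : G, ∑ g : A, extendByZero A (fun _ => (1 : ℂ)) (x⁻¹ * (g : G) * x) =
      if x ∈ A then (Nat.card A : ℂ) else (e : ℂ) := by
    intro x
    rw [Finset.sum_congr rfl (g := fun g : A => if (g : G) • (x • a) = x • a then (1 : ℂ) else 0)
      fun g _ => ?_]
    · rw [Finset.sum_boole]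
      split_ifs with hx
      · have hx' : x • a = a := hx
        rw [Finset.filter_true_of_mem fun g _ => (by rw [hx']; exact g.2), Finset.card_univ,
          Nat.card_eq_fintype_card]
      · have hx' : x • a ≠ a := hx
        rw [← Fintype.card_subtype, ← Nat.card_eq_fintype_card, he, ← zas_card_pair hZ hab hx'.symm]
        refine congrArg Nat.cast (Nat.card_congr ⟨fun g => ⟨(g.1 : G), g.1.2, g.2⟩,
          fun g => ⟨⟨g.1, g.2.1⟩, g.2.2⟩, fun _ => rfl, fun _ => rfl⟩)
    · have hiff : x⁻¹ * (g : G) * x ∈ A ↔ (g : G) • (x • a) = x • a := by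
        show (x⁻¹ * (g : G) * x) • a = a ↔ _
        rw [mul_smul, mul_smul, inv_smul_eq_iff]
      by_cases hg : (g : G) • (x • a) = x • a
      · rw [if_pos hg, extendByZero_of_mem A _ (hiff.mpr hg)]
      · rw [if_neg hg, extendByZero_of_notMem A _ fun h => hg (hiff.mp h)]
  rw [classInner_indFun A _ (isClassFunction_indFun A _)]
  simp only [classInner, indFun, map_mul, map_sum, map_inv₀, map_natCast, one_mul]
  rw [← Finset.mul_sum, Finset.sum_comm]
  have hcj : ∀ g : G, conj (extendByZero A (fun _ => (1 : ℂ)) g) = extendByZero A (fun _ => (1 : ℂ)) g := by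
    intro g
    by_cases hg : g ∈ A
    · rw [extendByZero_of_mem A _ hg, map_one]
    · rw [extendByZero_of_notMem A _ hg, map_zero]
  simp only [hcj, hpt]
  rw [Finset.sum_ite, Finset.sum_const, Finset.sum_const, nsmul_eq_mul, nsmul_eq_mul]
  have h1 : (Finset.univ.filter fun x : G => x ∈ A).card = Nat.card A := by
    rw [← Fintype.card_subtype, Nat.card_eq_fintype_card]
  have h2 : ((Finset.univ.filter fun x : G => x ∉ A).card : ℂ) * e = (Nat.card A : ℂ) * Nat.card A := by
    have h3 := Finset.card_filter_add_card_filter_not (s := (Finset.univ : Finset G)) (fun x => x ∈ A)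
    rw [h1, Finset.card_univ, ← Nat.card_eq_fintype_card, hG] at h3
    have h4 : 2 < Fintype.card Ω := zas_two_lt_card hZ
    obtain ⟨h, hh⟩ : ∃ h, Fintype.card Ω = h + 1 := ⟨Fintype.card Ω - 1, by omega⟩
    simp only [hh, Nat.add_sub_cancel, add_mul, one_mul] at h3 hA1
    rw [← hA1] at h3
    have h5 : (Finset.univ.filter fun x : G => x ∉ A).card = h * Nat.card A := by linarith
    rw [h5, hA1]
    push_cast
    ring
  rw [h1, h2]
  have := card_cast_ne_zero (G := A)
  field_simp
  ring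

open Classical in
/-- At most two irreducible constituents in a character of norm two. -/
theorem card_constituents_le {G : Type*} [Group G] [Fintype G] {f : G → ℂ} (hf : IsCharacter G f)
    {k : ℕ} (hk : classInner f f = k) :
    (Finset.univ.filter fun ψ : IrrCharacter G => classInner f (ψ : G → ℂ) ≠ 0).card ≤ k := by
  choose n hn using fun ψ : IrrCharacter G => hf.exists_nat_classInner ψ.2.isCharacter
  have h1 : (∑ ψ : IrrCharacter G, n ψ * n ψ : ℕ) = k := by
    have h2 := classInner_eq_sum (f' := f) hf.isClassFunction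
    simp only [hn, map_natCast] at h2
    exact_mod_cast h2.symm.trans hk
  calc (Finset.univ.filter fun ψ : IrrCharacter G => classInner f (ψ : G → ℂ) ≠ 0).card
      = ∑ ψ ∈ Finset.univ.filter (fun ψ : IrrCharacter G => classInner f (ψ : G → ℂ) ≠ 0), 1 :=
        (Finset.card_eq_sum_ones _)
    _ ≤ ∑ ψ ∈ Finset.univ.filter (fun ψ : IrrCharacter G => classInner f (ψ : G → ℂ) ≠ 0), n ψ * n ψ := by
        refine Finset.sum_le_sum fun ψ hψ => ?_
        have h3 : n ψ ≠ 0 := fun h => (Finset.mem_filter.mp hψ).2 (by rw [hn ψ, h, Nat.cast_zero])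
        exact Nat.one_le_iff_ne_zero.mpr (mul_ne_zero h3 h3)
    _ ≤ ∑ ψ : IrrCharacter G, n ψ * n ψ :=
        Finset.sum_le_sum_of_subset (Finset.subset_univ _)
    _ = k := h1

section Main

variable {G Ω : Type*} [Group G] [Fintype G] [MulAction G Ω] [Fintype Ω] [IsSimpleGroup G]
  (hZ : IsZassenhausGroup G Ω) {a b : Ω} (hab : a ≠ b)
  (hodd : Odd (Nat.card ↥(MulAction.stabilizer G a ⊓ MulAction.stabilizer G b : Subgroup G)))
  (H : Subgroup G) (hHa : H ≤ MulAction.stabilizer G a) (hHcard : Nat.card H + 1 = Fintype.card Ω)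
  (hHfix : ∀ u ∈ H, u ≠ 1 → ∀ c : Ω, u • c = c → c = a)

local notation "DD" => (MulAction.stabilizer G a ⊓ MulAction.stabilizer G b : Subgroup G)
local notation "AA" => (MulAction.stabilizer G a : Subgroup G)

include hZ hab hodd hHa hHcard hHfix

/-- A character induced from a nontrivial linear character over the kernel is real. -/
theorem ind_linear_real (hlt : Nat.card DD < Fintype.card Ω - 2) {μ : AA → ℂ}
    (hμ : IsCharacter AA μ ∧ μ 1 = 1)
    (hμH : ∀ u : AA, (u : G) ∈ H → μ u = 1) (hμne : μ ≠ fun _ => 1) (g : G) :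
    indFun AA μ g⁻¹ = indFun AA μ g := by
  obtain ⟨-, hone⟩ := Cfsg.Agent.S0881.result hZ hab hodd hlt H hHa hHcard hHfix μ hμ hμH hμne
  have hcf := isClassFunction_indFun AA μ
  have hinv : ∀ k y : G, indFun AA μ (k * y * k⁻¹) = indFun AA μ y := fun k y => hcf y k
  by_cases hc : ∃ c : Ω, g • c = c
  · obtain ⟨c, hc⟩ := hc
    by_cases hg1 : g = 1
    · rw [hg1, inv_one]
    obtain ⟨k, hk⟩ : ∃ k : G, k • c = a := by
      by_cases hca : c = a
      · exact ⟨1, by rw [hca, one_smul]⟩
      · obtain ⟨k, hka, -⟩ := MulAction.is_two_pretransitive_iff.1 hZ.2.1 hca (fun e => hab e)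
        exact ⟨k, hka⟩
    have hk' : k⁻¹ • a = c := by rw [inv_smul_eq_iff, hk]
    rw [← hinv k g, ← hinv k g⁻¹, show k * g⁻¹ * k⁻¹ = (k * g * k⁻¹)⁻¹ by group]
    have hxa : (k * g * k⁻¹) • a = a := by rw [mul_smul, mul_smul, hk', hc, hk]
    have hx1 : k * g * k⁻¹ ≠ 1 := fun e => hg1 (by rwa [mul_inv_eq_one, mul_eq_left] at e)
    generalize k * g * k⁻¹ = x at hxa hx1 ⊢
    by_cases hxH : x ∈ H
    · rw [hone _ (H.inv_mem hxH) (inv_ne_one.mpr hx1), hone x hxH hx1]
    · obtain ⟨c', hc', hc'a⟩ : ∃ c' : Ω, x • c' = c' ∧ c' ≠ a := by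
        by_contra hh
        push Not at hh
        exact hxH (zas_mem_kernel hZ a H hHa hHcard hHfix hxa hh)
      obtain ⟨j, hja, hjc⟩ := MulAction.is_two_pretransitive_iff.1 hZ.2.1 (Ne.symm hc'a) hab
      have i1 : j⁻¹ • a = a := by rw [inv_smul_eq_iff, hja]
      have i2 : j⁻¹ • b = c' := by rw [inv_smul_eq_iff, hjc]
      have hy : j * x * j⁻¹ ∈ DD := ⟨show (j * x * j⁻¹) • a = a by rw [mul_smul, mul_smul, i1, hxa, hja],
        show (j * x * j⁻¹) • b = b by rw [mul_smul, mul_smul, i2, hc', hjc]⟩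
      rw [← hinv j x, ← hinv j x⁻¹, show j * x⁻¹ * j⁻¹ = (j * x * j⁻¹)⁻¹ by group]
      obtain ⟨s, hs, hsa, hsb⟩ := (Cfsg.Agent.S0740.result hZ hab).1
      rw [← zas_invert hZ hab hodd hs hsa hsb hy, hinv]
  · push Not at hc
    have hz : ∀ y : G, (∀ c : Ω, y • c ≠ c) → indFun AA μ y = 0 := by
      intro y hy
      show _ * ∑ x : G, extendByZero AA μ (x⁻¹ * y * x) = 0
      rw [Finset.sum_eq_zero fun x _ => extendByZero_of_notMem _ _ fun h => hy (x • a) ?_, mul_zero]
      have h' : (x⁻¹ * y * x) • a = a := h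
      rwa [mul_smul, mul_smul, inv_smul_eq_iff] at h'
    rw [hz g hc, hz g⁻¹ fun c h => hc c (inv_smul_eq_iff.mp h).symm]

set_option maxHeartbeats 1000000 in
/-- Simple Zassenhaus groups with abelian kernel and odd two-point stabilizers. -/
theorem bound_simple (hHc : ∀ x ∈ H, ∀ y ∈ H, x * y = y * x) :
    Fintype.card Ω - 2 ≤ 2 * Nat.card DD := by
  classical
  by_contra hcon
  obtain ⟨h, hh⟩ : ∃ h, Fintype.card Ω = h + 1 :=
    ⟨Fintype.card Ω - 1, by have := zas_two_lt_card hZ; omega⟩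
  obtain ⟨e, he⟩ : ∃ e, Nat.card DD = e := ⟨_, rfl⟩
  have hHh : Nat.card H = h := by omega
  obtain ⟨hA1, hG⟩ := zas_card_group hZ hab
  rw [hh, Nat.add_sub_cancel, he] at hA1 hG
  have he3 : 3 ≤ e := he ▸ zas_three_le_D hZ hab hodd
  have hlt2 : 2 * e < h - 1 := by omega
  have hlt : Nat.card DD < Fintype.card Ω - 2 := by omega
  obtain ⟨hTI, hN⟩ := Cfsg.Agent.S0878.result hZ a H hHa hHcard hHfix
  have hC : ∀ k ∈ H, k ≠ 1 → Subgroup.centralizer ({k} : Set G) ≤ H :=
    fun k hk hk1 => centralizer_le hZ hab H hHa hHcard hHfix hHc hk hk1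
  have hltN : H < Subgroup.normalizer (H : Set G) := by
    refine lt_of_le_of_ne Subgroup.le_normalizer fun e' => ?_
    have h1 : Nat.card H = Nat.card AA := by
      conv_lhs => rw [e']
      rw [hN]
    rw [hA1, hHh] at h1
    have := Nat.eq_of_mul_eq_mul_left (show 0 < h by omega) ((mul_one h).trans h1)
    omega
  have hTI' : ∀ g : G, g ∉ Subgroup.normalizer (H : Set G) → ∀ k ∈ H, g * k * g⁻¹ ∈ H → k = 1 :=
    fun g hg => hTI g (hN ▸ hg)
  haveI hKn : (H.subgroupOf AA).Normal := by rw [← hN]; exact Subgroup.normal_in_normalizer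
  haveI := Fintype.ofFinite AA
  set K := H.subgroupOf AA with hK
  have hKcard : Nat.card K = h := by
    rw [hK, Nat.card_congr (Subgroup.subgroupOfEquivOfLe hHa).toEquiv, hHh]
  have hKidx : K.index = e := by
    have := K.card_mul_index
    rw [hKcard, hA1] at this
    exact Nat.eq_of_mul_eq_mul_left (show 0 < h by omega) this
  have hKne : K ≠ ⊥ := fun hb => by rw [hb, Subgroup.card_bot] at hKcard; omega
  have hCK : ∀ k ∈ K, k ≠ 1 → Subgroup.centralizer ({k} : Set AA) ≤ K := fun k hk hk1 x hx =>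
    hC k hk (fun h' => hk1 (Subtype.ext h')) (Subgroup.mem_centralizer_singleton_iff.mpr
      (congrArg Subtype.val (Subgroup.mem_centralizer_singleton_iff.mp hx)))
  have hKc : ∀ x ∈ K, ∀ y ∈ K, x * y = y * x := fun x hx y hy => Subtype.ext (hHc _ hx _ hy)
  have h851 := Cfsg.Agent.S0851.result H hTI' hltN hC hHc
  rw [hN] at h851
  rcases h851 with ⟨-, p, -, -, h1⟩ | ⟨ε, f, hε, hfinj, hf⟩
  · rw [← hK, hKidx, hHh] at h1
    omega
  -- the characters nontrivial on the kernel
  let P : IrrCharacter AA → Prop := fun η => ∀ k ∈ K, (η : AA → ℂ) k = (η : AA → ℂ) 1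
  let X := {η : IrrCharacter AA // ∃ k : AA, (k : G) ∈ H ∧ (η : AA → ℂ) k ≠ (η : AA → ℂ) 1}
  have hXP : ∀ η : IrrCharacter AA,
      (∃ k : AA, (k : G) ∈ H ∧ (η : AA → ℂ) k ≠ (η : AA → ℂ) 1) ↔ ¬ P η := fun η => by
    simp only [P, hK, Subgroup.mem_subgroupOf]
    push Not
    rfl
  have hdegX : ∀ η : IrrCharacter AA, ¬ P η → (η : AA → ℂ) 1 = (e : ℂ) := by
    intro η hη
    simp only [P] at hη
    push Not at hη
    obtain ⟨⟨θ, hθ0, -, hθ⟩, -⟩ := frobKernel_degree hCK η.2 hη
    rw [hKidx] at hθ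
    have h1 := degree_dvd_index_of_comm K hKc η.2 (d := e * θ) (by rw [hθ, Nat.cast_mul])
    rw [hKidx] at h1
    have h2 : e * θ ≤ e := Nat.le_of_dvd (by omega) h1
    have h3 : θ = 1 := by nlinarith
    rw [hθ, h3, Nat.cast_one, mul_one]
  have hdeg1 : ∀ η : IrrCharacter AA, P η → (η : AA → ℂ) 1 = 1 := by
    intro η hη
    obtain ⟨ψ, hψ, hψη⟩ := exists_deflate_irr (N := K) η.2 hη
    rw [← hψη 1]
    refine degree_eq_one_of_comm (fun x y => ?_) hψ
    induction x using QuotientGroup.induction_on with | H x => ?_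
    induction y using QuotientGroup.induction_on with | H y => ?_
    have hrep : ∀ x : AA, ∃ d : AA, (d : G) ∈ DD ∧ (QuotientGroup.mk x : AA ⧸ K) = QuotientGroup.mk d := by
      intro x
      obtain ⟨u, hu, d, hd, hxd⟩ := stab_decomp hab H hHa hHcard hHfix x.2
      refine ⟨⟨d, hd.1⟩, hd, ?_⟩
      rw [show x = (⟨u, hHa hu⟩ : AA) * ⟨d, hd.1⟩ from Subtype.ext hxd, QuotientGroup.mk_mul,
        (QuotientGroup.eq_one_iff (⟨u, hHa hu⟩ : AA)).mpr hu, one_mul]
    obtain ⟨c, hc, hxc⟩ := hrep x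
    obtain ⟨d, hd, hyd⟩ := hrep y
    rw [hxc, hyd, ← QuotientGroup.mk_mul, ← QuotientGroup.mk_mul,
      show c * d = d * c from Subtype.ext (zas_D_comm hZ hab hodd hc hd)]
  let L := Finset.univ.filter P
  have hLcard : L.card = e := by
    have h1 := sum_sq_trivialOn K
    rw [hKidx, Finset.sum_congr rfl (g := fun _ => (1 : ℂ)) fun η hη => by
      rw [hdeg1 η (Finset.mem_filter.mp hη).2, one_pow], Finset.sum_const, nsmul_eq_mul, mul_one] at h1
    exact_mod_cast h1
  let S := Finset.univ.filter fun η => ¬ P η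
  obtain ⟨m, hm⟩ : ∃ m, S.card = m := ⟨_, rfl⟩
  have hme : m * e + 1 = h := by
    have h1 := sum_nontrivialOn K K.one_mem
    rw [if_pos rfl, Finset.sum_congr rfl (g := fun _ => (e : ℂ) * e) fun η hη => by
      rw [hdegX η (Finset.mem_filter.mp hη).2], Finset.sum_const, nsmul_eq_mul, hKidx, hA1] at h1
    change (S.card : ℂ) * _ = _ at h1
    rw [hm] at h1
    have h2 : ((m * e + 1) * e : ℕ) = h * e := by
      have h3 : (((m * e + 1) * e : ℕ) : ℂ) = ((h * e : ℕ) : ℂ) := by
        push_cast at h1 ⊢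
        linear_combination h1
      exact_mod_cast h3
    exact Nat.eq_of_mul_eq_mul_right (show 0 < e by omega) h2
  have hm3 : 3 ≤ m := by
    by_contra hh
    have : m * e ≤ 2 * e := Nat.mul_le_mul_right _ (by omega)
    omega
  have hXcard : Fintype.card X = m := by
    rw [← hm, Fintype.card_subtype]
    exact congrArg Finset.card (Finset.filter_congr fun η _ => hXP η)
  -- inner products of restrictions
  let c : IrrCharacter G → IrrCharacter AA → ℂ := fun ψ η =>
    classInner (fun x : AA => (ψ : G → ℂ) x) (η : AA → ℂ)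
  have hrec : ∀ ψ η, c ψ η = classInner (ψ : G → ℂ) (indFun AA (η : AA → ℂ)) := fun ψ η =>
    (classInner_indFun_right AA _ ψ.2.isClassFunction).symm
  -- the bad characters
  let one : IrrCharacter AA := ⟨fun _ => 1, isIrrCharacter_one⟩
  have hone : one ∈ L := Finset.mem_filter.mpr ⟨Finset.mem_univ _, fun _ _ => rfl⟩
  let B₁ := Finset.univ.filter fun ψ : IrrCharacter G => classInner (indFun AA (one : AA → ℂ)) (ψ : G → ℂ) ≠ 0
  have hB₁ : B₁.card ≤ 2 := card_constituents_le
    (isCharacter_indFun AA (isIrrCharacter_one (G := AA)).isCharacter) (k := 2)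
    (by exact_mod_cast norm_indFun_one hZ hab)
  have hlin : ∀ η : IrrCharacter AA, η ∈ L → η ≠ one →
      IsIrrCharacter G (indFun AA (η : AA → ℂ)) ∧
        ∀ g, indFun AA (η : AA → ℂ) g⁻¹ = indFun AA (η : AA → ℂ) g := by
    intro η hη hne
    have hP := (Finset.mem_filter.mp hη).2
    have hμ : IsCharacter AA (η : AA → ℂ) ∧ (η : AA → ℂ) 1 = 1 := ⟨η.2.isCharacter, hdeg1 η hP⟩
    have hμH : ∀ u : AA, (u : G) ∈ H → (η : AA → ℂ) u = 1 := fun u hu => (hP u hu).trans hμ.2
    have hμne : (η : AA → ℂ) ≠ fun _ => 1 := fun h' => hne (Subtype.ext h')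
    exact ⟨(Cfsg.Agent.S0881.result hZ hab hodd hlt H hHa hHcard hHfix _ hμ hμH hμne).1,
      fun g => ind_linear_real hZ hab hodd H hHa hHcard hHfix hlt hμ hμH hμne g⟩
  obtain ⟨η₀, hη₀, hη₀ne⟩ := Finset.exists_mem_ne (show 1 < L.card by omega) one
  let η₁ : IrrCharacter AA := ⟨fun x => conj ((η₀ : AA → ℂ) x), isIrrCharacter_conjFn η₀.2⟩
  have hP₀ := (Finset.mem_filter.mp hη₀).2
  have hη₁ : η₁ ∈ L := Finset.mem_filter.mpr ⟨Finset.mem_univ _, fun k hk => by
    show conj _ = conj _
    rw [hP₀ k hk]⟩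
  have hη₁ne : η₁ ≠ η₀ := by
    intro h'
    refine hη₀ne (Subtype.ext (funext fun x => ?_))
    obtain ⟨l, hl⟩ := exists_hom_of_degree_one η₀.2.isCharacter (hdeg1 η₀ hP₀)
    have hreal : conj ((η₀ : AA → ℂ) x) = (η₀ : AA → ℂ) x :=
      congrFun (congrArg Subtype.val h') x
    show (η₀ : AA → ℂ) x = 1
    have hpow : ((η₀ : AA → ℂ) x) ^ e = 1 := by
      have h1 := hP₀ _ (hKidx ▸ Subgroup.pow_index_mem K x)
      rw [hdeg1 η₀ hP₀, hl] at h1
      simp only [map_pow, Units.val_pow_eq_pow_val] at h1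
      rw [hl]; exact h1
    obtain ⟨r, hr⟩ := Complex.conj_eq_iff_real.mp hreal
    rw [hr] at hpow ⊢
    have h2 : r ^ e = 1 := by exact_mod_cast hpow
    rw [(he ▸ hodd : Odd e).pow_inj.mp (h2.trans (one_pow e).symm), Complex.ofReal_one]
  have hη₁η₀ : indFun AA (η₁ : AA → ℂ) = indFun AA (η₀ : AA → ℂ) := by
    have hc' : indFun AA (η₁ : AA → ℂ) = fun g => conj (indFun AA (η₀ : AA → ℂ) g) := by
      funext g
      show (Nat.card AA : ℂ)⁻¹ * _ = conj ((Nat.card AA : ℂ)⁻¹ * _)
      rw [map_mul, map_inv₀, map_natCast, map_sum]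
      refine congrArg _ (Finset.sum_congr rfl fun x _ => ?_)
      by_cases hx : x⁻¹ * g * x ∈ AA
      · rw [extendByZero_of_mem _ _ hx, extendByZero_of_mem _ _ hx]
      · rw [extendByZero_of_notMem _ _ hx, extendByZero_of_notMem _ _ hx, map_zero]
    rw [hc']
    funext g
    rw [← (hlin η₀ hη₀ hη₀ne).1.isCharacter.apply_inv g, (hlin η₀ hη₀ hη₀ne).2 g]
  let L' := (L.erase one).erase η₁
  have hL' : L'.card + 2 = e := by
    have h1 : η₁ ≠ one := fun h' => hη₀ne (Subtype.ext (funext fun x => by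
      have h2 : conj ((η₀ : AA → ℂ) x) = 1 := congrFun (congrArg Subtype.val h') x
      show (η₀ : AA → ℂ) x = 1
      rw [← Complex.conj_conj ((η₀ : AA → ℂ) x), h2, map_one]))
    rw [Finset.card_erase_of_mem (Finset.mem_erase.mpr ⟨h1, hη₁⟩), Finset.card_erase_of_mem hone,
      hLcard]
    omega
  let B₂ : Finset (IrrCharacter G) := L'.attach.image fun η => ⟨indFun AA (η.1 : AA → ℂ),
    (hlin η.1 (Finset.mem_of_mem_erase (Finset.mem_of_mem_erase η.2))
      (Finset.ne_of_mem_erase (Finset.mem_of_mem_erase η.2))).1⟩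
  have hB₂ : B₂.card ≤ L'.card := le_trans Finset.card_image_le (Finset.card_attach).le
  let B₀ : Finset (IrrCharacter G) := (Finset.univ : Finset X).image f
  have hB₀ : B₀.card ≤ m := hXcard ▸ Finset.card_image_le
  -- the classes
  have hclasses : 1 + m + e ≤ Nat.card (ConjClasses G) := by
    haveI : Fintype (ConjClasses G) := Fintype.ofFinite _
    let Q : ConjClasses G → Prop := fun C => ∀ g : G, ConjClasses.mk g = C → g ∉ H
    have h1 : e ≤ (Finset.univ.filter Q).card := by
      have := Cfsg.Agent.S0884.result hZ hab h e hh he (he ▸ hodd) hlt2 H hHa hHcard hHfix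
      rwa [Nat.card_eq_fintype_card, Fintype.card_subtype] at this
    let H' : Finset G := Finset.univ.filter fun u => u ∈ H ∧ u ≠ 1
    have hH' : H'.card + 1 = h := by
      have h2 : H' = (Finset.univ.filter fun u : G => u ∈ H).erase 1 := by
        ext u; simp [H', and_comm]
      rw [h2, Finset.card_erase_of_mem (by simp [H.one_mem]), ← Fintype.card_subtype,
        ← Nat.card_eq_fintype_card, hHh]
      omega
    let I := H'.image ConjClasses.mk
    have h3 : H'.card ≤ e * I.card := by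
      refine Finset.card_le_mul_card_image H' e fun C hC' => ?_
      obtain ⟨u, hu, rfl⟩ := Finset.mem_image.mp hC'
      obtain ⟨-, huH, hu1⟩ := Finset.mem_filter.mp hu
      refine le_trans (Finset.card_le_card (t := (Finset.univ.filter fun d : G => d ∈ DD).image
        fun d => d * u * d⁻¹) fun v hv => ?_) (le_trans Finset.card_image_le ?_)
      · obtain ⟨hv, hvu⟩ := Finset.mem_filter.mp hv
        obtain ⟨-, hvH, hv1⟩ := Finset.mem_filter.mp hv
        obtain ⟨g, rfl⟩ := isConj_iff.mp (ConjClasses.mk_eq_mk_iff_isConj.mp hvu.symm)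
        have hg : g • a = a := by
          by_contra hg
          exact hu1 (hTI g hg u huH hvH)
        obtain ⟨w, hw, d, hd, rfl⟩ := stab_decomp hab H hHa hHcard hHfix hg
        refine Finset.mem_image.mpr ⟨d, Finset.mem_filter.mpr ⟨Finset.mem_univ _, hd⟩, ?_⟩
        have hdu : d * u * d⁻¹ ∈ H := by
          have h4 := H.mul_mem (H.mul_mem (H.inv_mem hw) hvH) hw
          rwa [show w⁻¹ * (w * d * u * (w * d)⁻¹) * w = d * u * d⁻¹ by group] at h4
        rw [show w * d * u * (w * d)⁻¹ = w * (d * u * d⁻¹) * w⁻¹ by group, hHc w hw _ hdu,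
          mul_inv_cancel_right]
      · rw [← Fintype.card_subtype, ← Nat.card_eq_fintype_card, he]
    have h5 : insert (ConjClasses.mk 1) I ⊆ Finset.univ.filter fun C => ¬ Q C := by
      intro C hC'
      refine Finset.mem_filter.mpr ⟨Finset.mem_univ _, fun hQ => ?_⟩
      rcases Finset.mem_insert.mp hC' with rfl | hC'
      · exact hQ 1 rfl H.one_mem
      · obtain ⟨u, hu, rfl⟩ := Finset.mem_image.mp hC'
        exact hQ u rfl (Finset.mem_filter.mp hu).2.1
    have h6 : ConjClasses.mk (1 : G) ∉ I := by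
      intro h'
      obtain ⟨u, hu, hu1⟩ := Finset.mem_image.mp h'
      exact (Finset.mem_filter.mp hu).2.2
        (isConj_one_left.mp (ConjClasses.mk_eq_mk_iff_isConj.mp hu1))
    have h7 := Finset.card_le_card h5
    rw [Finset.card_insert_of_notMem h6] at h7
    have h8 : m ≤ I.card := Nat.le_of_mul_le_mul_left
      (show e * m ≤ e * I.card by rw [mul_comm e m]; omega) (by omega)
    rw [Nat.card_eq_fintype_card, ← Finset.card_univ,
      ← Finset.card_filter_add_card_filter_not (s := (Finset.univ : Finset (ConjClasses G))) Q]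
    omega
  -- a good character
  obtain ⟨ψ, hψ⟩ : ∃ ψ : IrrCharacter G, ψ ∉ B₀ ∪ (B₁ ∪ B₂) := by
    by_contra hall
    push Not at hall
    have h1 : (Finset.univ : Finset (IrrCharacter G)).card ≤ (B₀ ∪ (B₁ ∪ B₂)).card :=
      Finset.card_le_card fun x _ => hall x
    rw [Finset.card_univ, ← Nat.card_eq_fintype_card, card_irr_eq_card_conjClasses] at h1
    have h2 := Finset.card_union_le B₀ (B₁ ∪ B₂)
    have h3 := Finset.card_union_le B₁ B₂
    omega
  simp only [Finset.mem_union, not_or] at hψ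
  obtain ⟨hψ₀, hψ₁, hψ₂⟩ := hψ
  have hL0 : ∀ η ∈ L, c ψ η = 0 := by
    intro η hη
    by_contra hne
    rw [hrec] at hne
    by_cases h1 : η = one
    · refine hψ₁ (Finset.mem_filter.mpr ⟨Finset.mem_univ _, fun h' => hne ?_⟩)
      rw [h1, ← classInner_conj_symm, h', map_zero]
    · have h2 := (hlin η hη h1).1
      have h3 : (ψ : G → ℂ) = indFun AA (η : AA → ℂ) := by
        by_contra h'
        exact hne (classInner_irr_ne ψ.2 h2 h')
      apply hψ₂
      by_cases h4 : η = η₁
      · exact Finset.mem_image.mpr ⟨⟨η₀, Finset.mem_erase.mpr ⟨hη₁ne.symm, Finset.mem_erase.mpr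
          ⟨hη₀ne, hη₀⟩⟩⟩, Finset.mem_attach _ _, Subtype.ext (by rw [h3, h4, hη₁η₀])⟩
      · exact Finset.mem_image.mpr ⟨⟨η, Finset.mem_erase.mpr ⟨h4, Finset.mem_erase.mpr ⟨h1, hη⟩⟩⟩,
          Finset.mem_attach _ _, Subtype.ext h3.symm⟩
  obtain ⟨ξ⟩ : Nonempty X := Fintype.card_pos_iff.mp (by omega)
  obtain ⟨n, hn⟩ := (ψ.2.isCharacter.comp (AA).subtype).exists_nat_classInner ξ.1.2.isCharacter
  have hn' : c ψ ξ.1 = n := hn
  have hconst : ∀ η : IrrCharacter AA, ¬ P η → c ψ η = n := by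
    intro η hη
    let η' : X := ⟨η, (hXP η).mpr hη⟩
    have h1 := congrArg (fun φ => classInner (ψ : G → ℂ) φ) (hf η' ξ)
    simp only [indFun_sub, classInner_sub_right, classInner_smul_right] at h1
    rw [classInner_irr_ne ψ.2 (f η').2 fun h' => hψ₀ (Finset.mem_image.mpr
        ⟨η', Finset.mem_univ _, Subtype.ext h'.symm⟩),
      classInner_irr_ne ψ.2 (f ξ).2 fun h' => hψ₀ (Finset.mem_image.mpr
        ⟨ξ, Finset.mem_univ _, Subtype.ext h'.symm⟩), sub_self, mul_zero, ← hrec, ← hrec, hn',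
      sub_eq_zero] at h1
    exact h1
  obtain ⟨D, hD0, hD⟩ := ψ.2.exists_degree
  have hDeq : (D : ℂ) = ((n * (m * e) : ℕ) : ℂ) := by
    have hcf : IsClassFunction AA fun x : AA => (ψ : G → ℂ) x :=
      (ψ.2.isCharacter.comp (AA).subtype).isClassFunction
    have h1 := congrFun (eq_sum_classInner hcf) 1
    simp only [Finset.sum_apply, Pi.smul_apply, smul_eq_mul, OneMemClass.coe_one] at h1
    rw [← hD, h1, ← Finset.sum_filter_add_sum_filter_not Finset.univ P,
      Finset.sum_eq_zero (s := Finset.univ.filter P) (fun η hη => by rw [show classInner _ _ = _ from hL0 η hη, zero_mul]),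
      zero_add, Finset.sum_congr rfl (g := fun _ => (n : ℂ) * e) fun η hη => by
        rw [show classInner _ _ = _ from hconst η (Finset.mem_filter.mp hη).2, hdegX η (Finset.mem_filter.mp hη).2],
      Finset.sum_const, nsmul_eq_mul]
    change (S.card : ℂ) * _ = _
    rw [hm]; push_cast; ring
  have hdvd : m * e ∣ Nat.card G := by
    refine Dvd.dvd.trans ⟨n, ?_⟩ (degree_dvd_card ψ.2 hD)
    rw [Nat.cast_inj] at hDeq
    rw [hDeq]; ring
  rw [hG, show (h + 1) * (h * e) = (h + 1) * h * e by ring] at hdvd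
  have h9 : m ∣ (h + 1) * h := Nat.dvd_of_mul_dvd_mul_right (show 0 < e by omega) hdvd
  rw [← hme, show (m * e + 1 + 1) * (m * e + 1) = m * (e * (m * e + 3)) + 2 by ring] at h9
  have := Nat.le_of_dvd two_pos ((Nat.dvd_add_right (dvd_mul_right m _)).mp h9)
  omega

end Main

end Cfsg.Lib.Perm.ZasAbelian
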