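import Cfsg.Agent.Lib.Perm.ZasAbelian.Bound

/-!
# The simple normal subgroup of a Zassenhaus group with abelian kernel
-/

set_option autoImplicit false
set_option linter.style.haveILetI false

namespace Cfsg.Lib.Perm.ZasAbelian

open Cfsg Cfsg.Lib.Char
open scoped Pointwise

variable {G Ω : Type*} [Group G] [Finite G] [MulAction G Ω] [Fintype Ω]

/-- A nontrivial normal subgroup of a 2-transitive group is transitive. -/
theorem normal_transitive (hf : FaithfulSMul G Ω) (h2 : MulAction.IsMultiplyPretransitive G Ω 2)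
    (T : Subgroup G) [T.Normal] (hT : T ≠ ⊥) : MulAction.IsPretransitive T Ω := by
  haveI := hf
  obtain ⟨t, ht, ht1⟩ := (Subgroup.bot_or_exists_ne_one T).resolve_left hT
  obtain ⟨x, hx⟩ : ∃ x : Ω, t • x ≠ x := by
    by_contra hh
    push Not at hh
    exact ht1 (FaithfulSMul.eq_of_smul_eq_smul fun y : Ω => by rw [hh, one_smul])
  refine ⟨fun y z => ?_⟩
  by_cases hyz : y = z
  · exact ⟨1, by rw [hyz, one_smul]⟩
  obtain ⟨g, hgx, hgy⟩ := MulAction.is_two_pretransitive_iff.1 h2 (Ne.symm hx) hyz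
  refine ⟨⟨g * t * g⁻¹, Subgroup.Normal.conj_mem inferInstance t ht g⟩, ?_⟩
  show (g * t * g⁻¹) • y = z
  rw [← hgx, mul_smul, mul_smul, inv_smul_smul, hgy]

variable (hZ : IsZassenhausGroup G Ω) {a b : Ω} (hab : a ≠ b) (H : Subgroup G)
  (hHa : H ≤ MulAction.stabilizer G a) (hHcard : Nat.card H + 1 = Fintype.card Ω)
  (hHfix : ∀ u ∈ H, u ≠ 1 → ∀ c : Ω, u • c = c → c = a)
  (hHc : ∀ x ∈ H, ∀ y ∈ H, x * y = y * x)

include hZ hab hHa hHcard hHfix hHc

/-- A nontrivial normal subgroup contains the kernel and meets the two-point stabilizer. -/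
theorem normal_contains (T : Subgroup G) [T.Normal] (hT : T ≠ ⊥) :
    H ≤ T ∧ ∃ x ∈ (MulAction.stabilizer G a ⊓ MulAction.stabilizer G b : Subgroup G), x ∈ T ∧ x ≠ 1 := by
  classical
  obtain ⟨hf, h2, h3, h4, h5⟩ := hZ
  have hZ : IsZassenhausGroup G Ω := ⟨hf, h2, h3, h4, h5⟩
  haveI := hf
  haveI := normal_transitive hf h2 T hT
  obtain ⟨hTI, hN⟩ := Cfsg.Agent.S0878.result hZ a H hHa hHcard hHfix
  by_cases hsub : ∀ x ∈ T, x • a = a → x ∈ H
  · exfalso
    -- `T` would be a Frobenius group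
    set M := MulAction.stabilizer T a with hM
    obtain ⟨c, hc⟩ := h5 T inferInstance inferInstance
    have hMne : M ≠ ⊥ := by
      obtain ⟨x, hx, hx1⟩ := (Subgroup.bot_or_exists_ne_one _).resolve_left hc
      obtain ⟨k, hk⟩ := MulAction.exists_smul_eq T c a
      intro hb
      apply hx1
      have hmem : k * x * k⁻¹ ∈ M := by
        show (k * x * k⁻¹) • a = a
        rw [mul_smul, mul_smul, ← hk, inv_smul_smul, show x • c = c from hx]
      rw [hb, Subgroup.mem_bot, mul_inv_eq_one, mul_eq_left] at hmem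
      exact hmem
    have hMtop : M ≠ ⊤ := fun h => by
      obtain ⟨k, hk⟩ := MulAction.exists_smul_eq T a b
      have : k • a = a := MulAction.mem_stabilizer_iff.mp (show k ∈ M from h ▸ Subgroup.mem_top k)
      exact hab (this.symm.trans hk)
    have hmem : ∀ (g x : T), x ∈ MulAut.conj g • M ↔ x • (g • a) = g • a := by
      intro g x
      rw [Subgroup.mem_pointwise_smul_iff_inv_smul_mem, ← map_inv, MulAut.smul_def, MulAut.conj_apply,
        inv_inv]
      show (g⁻¹ * x * g) • a = a ↔ _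
      rw [mul_smul, mul_smul, inv_smul_eq_iff]
    have hFr : IsFrobeniusComplement M := by
      refine ⟨hMne, hMtop, fun g hg => ?_⟩
      rw [Subgroup.eq_bot_iff_forall]
      rintro x ⟨hx1, hx2⟩
      have h1 : (x : G) • a = a := hx1
      have h4 : (x : G) • ((g : G) • a) = (g : G) • a := (hmem g x).mp hx2
      by_contra hne
      exact hg (hHfix (x : G) (hsub _ x.2 h1) (fun e => hne (Subtype.ext e)) _ h4)
    obtain ⟨R, hR, -, hc'⟩ := Cfsg.Agent.S0035.result M hFr
    have hRiff : ∀ x : T, x ∈ R ↔ x = 1 ∨ ∀ c : Ω, (x : G) • c ≠ c := by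
      intro x
      rw [← SetLike.mem_coe, hR]
      refine or_congr Iff.rfl ⟨fun h c hc => ?_, fun h g hg => ?_⟩
      · obtain ⟨g, hg⟩ := MulAction.exists_smul_eq T a c
        exact h g ((hmem g x).mpr (by rw [hg]; exact hc))
      · exact h _ ((hmem g x).mp hg)
    have hnorm : (R.map T.subtype).Normal := by
      refine ⟨fun x hx g => ?_⟩
      obtain ⟨x, hxR, rfl⟩ := hx
      refine ⟨⟨g * (x : G) * g⁻¹, Subgroup.Normal.conj_mem inferInstance _ x.2 g⟩, ?_, rfl⟩
      rw [SetLike.mem_coe, hRiff]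
      rcases (hRiff x).mp hxR with rfl | h
      · exact Or.inl (Subtype.ext (by simp))
      · refine Or.inr fun c hc => h (g⁻¹ • c) ?_
        rw [eq_inv_smul_iff, ← mul_smul, ← mul_smul]
        exact hc
    have htr : MulAction.IsPretransitive (R.map T.subtype) Ω := by
      have hpt : ∀ c : Ω, ∃ r : T, r ∈ R ∧ r • a = c := by
        intro c
        obtain ⟨g, hg⟩ := MulAction.exists_smul_eq T a c
        have hg' : g ∈ ((R : Set T) * (M : Set T)) := by
          rw [Subgroup.IsComplement.mul_eq hc']; trivial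
        obtain ⟨r, hr, m, hm, rfl⟩ := Set.mem_mul.mp hg'
        exact ⟨r, hr, by rw [← hg, mul_smul, show m • a = a from hm]⟩
      refine ⟨fun y z => ?_⟩
      obtain ⟨r, hr, rfl⟩ := hpt y
      obtain ⟨s, hs, rfl⟩ := hpt z
      exact ⟨⟨((s * r⁻¹ : T) : G), s * r⁻¹, R.mul_mem hs (R.inv_mem hr), rfl⟩,
        show (s * r⁻¹) • (r • a) = s • a by rw [mul_smul, inv_smul_smul]⟩
    obtain ⟨c₀, hc₀⟩ := h5 _ hnorm htr
    obtain ⟨⟨y, x, hxR, rfl⟩, hy, hy1⟩ := (Subgroup.bot_or_exists_ne_one _).resolve_left hc₀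
    rcases (hRiff x).mp hxR with h | h
    · exact hy1 (Subtype.ext (show (x : G) = 1 from congrArg Subtype.val h))
    · exact h c₀ hy
  · push Not at hsub
    obtain ⟨x, hxT, hxa, hxH⟩ := hsub
    have hHT : H ≤ T := by
      -- commutation with `x` is injective on `H`
      have hxn : ∀ u ∈ H, x * u * x⁻¹ ∈ H := fun u hu =>
        ((Subgroup.mem_normalizer_iff.mp (hN.symm ▸ hxa : x ∈ Subgroup.normalizer (H : Set G))) u).mp hu
      let f : H → H := fun u => ⟨(u : G) * (x * (u : G)⁻¹ * x⁻¹), H.mul_mem u.2 (hxn _ (H.inv_mem u.2))⟩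
      have hinj : Function.Injective f := by
        intro u v huv
        have h1 : (u : G) * (x * (u : G)⁻¹ * x⁻¹) = (v : G) * (x * (v : G)⁻¹ * x⁻¹) :=
          congrArg Subtype.val huv
        by_contra hne
        refine hxH (centralizer_le hZ hab H hHa hHcard hHfix hHc
          (H.mul_mem (H.inv_mem v.2) u.2) (fun e => hne (Subtype.ext (inv_mul_eq_one.mp e).symm)) ?_)
        rw [Subgroup.mem_centralizer_singleton_iff]
        calc x * ((v : G)⁻¹ * u) = (x * (v : G)⁻¹ * x⁻¹) * (x * u) := by group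
          _ = (v : G)⁻¹ * ((v : G) * (x * (v : G)⁻¹ * x⁻¹)) * (x * u) := by group
          _ = (v : G)⁻¹ * ((u : G) * (x * (u : G)⁻¹ * x⁻¹)) * (x * u) := by rw [h1]
          _ = (v : G)⁻¹ * u * x := by group
      intro w hw
      obtain ⟨u, hu⟩ := (Finite.injective_iff_surjective.mp hinj) ⟨w, hw⟩
      have h1 : (u : G) * (x * (u : G)⁻¹ * x⁻¹) = w := congrArg Subtype.val hu
      rw [← h1, ← mul_assoc, ← mul_assoc]
      exact T.mul_mem (Subgroup.Normal.conj_mem inferInstance x hxT u) (T.inv_mem hxT)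
    obtain ⟨u, hu, d, hd, rfl⟩ := stab_decomp hab H hHa hHcard hHfix hxa
    refine ⟨hHT, d, hd, ?_, fun h => hxH (by rw [h, mul_one]; exact hu)⟩
    have := T.mul_mem (T.inv_mem (hHT hu)) hxT
    rwa [inv_mul_cancel_left] at this

/-- A simple normal subgroup which is itself a Zassenhaus group. -/
theorem exists_simple : ∃ N : Subgroup G, N.Normal ∧ H ≤ N ∧ IsSimpleGroup N ∧ IsZassenhausGroup N Ω := by
  classical
  obtain ⟨hf, h2, h3, h4, h5⟩ := hZ
  have hZ : IsZassenhausGroup G Ω := ⟨hf, h2, h3, h4, h5⟩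
  haveI := hf
  set N := Subgroup.normalClosure (H : Set G) with hNdef
  haveI hNn : N.Normal := Subgroup.normalClosure_normal
  have hHN : H ≤ N := Subgroup.le_normalClosure
  have hH1 : H ≠ ⊥ := fun h => by
    rw [h, Subgroup.card_bot] at hHcard
    have := zas_two_lt_card hZ; omega
  have hN1 : N ≠ ⊥ := fun h => hH1 (le_bot_iff.mp (hHN.trans h.le))
  obtain ⟨-, x, hx, hxN, hx1⟩ := normal_contains hZ hab H hHa hHcard hHfix hHc N hN1
  haveI := normal_transitive hf h2 N hN1
  have hNf : FaithfulSMul N Ω := ⟨fun {u v} h => Subtype.ext (hf.eq_of_smul_eq_smul fun y => h y)⟩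
  have hNt : MulAction.IsMultiplyPretransitive N Ω 2 := by
    have hmov : ∀ {y z : Ω}, y ≠ z → ∃ k : N, k • y = a ∧ k • z = b := by
      intro y z hyz
      obtain ⟨k, hk⟩ := MulAction.exists_smul_eq N y a
      have hz : k • z ≠ a := fun h => hyz (MulAction.injective k (hk.trans h.symm))
      obtain ⟨u, hu, hub⟩ := kernel_transitive hab H hHa hHcard hHfix hz
      refine ⟨⟨u⁻¹, N.inv_mem (hHN hu)⟩ * k, ?_, ?_⟩
      · rw [mul_smul, hk]
        show u⁻¹ • a = a
        rw [inv_smul_eq_iff]; exact (hHa hu).symm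
      · rw [mul_smul]
        show u⁻¹ • (k • z) = b
        rw [inv_smul_eq_iff, hub]
    rw [MulAction.is_two_pretransitive_iff]
    intro y z y' z' hyz hyz'
    obtain ⟨k, hk1, hk2⟩ := hmov hyz
    obtain ⟨k', hk1', hk2'⟩ := hmov hyz'
    exact ⟨k'⁻¹ * k, by rw [mul_smul, hk1, inv_smul_eq_iff, hk1'], by
      rw [mul_smul, hk2, inv_smul_eq_iff, hk2']⟩
  -- regular normal subgroups of `N`
  have hreg : ∀ R : Subgroup N, R.Normal → MulAction.IsPretransitive R Ω →
      (∀ c : Ω, ∀ r ∈ R, r • c = c → r = 1) → False := by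
    intro R hRn hRt hRs
    haveI := hRn
    have hconj : ∀ r ∈ R, r ≠ 1 → ∀ s ∈ R, s ≠ 1 → ∃ k : N, k * r * k⁻¹ = s := by
      intro r hr hr1 s hs hs1
      obtain ⟨k, hka, hkr⟩ := MulAction.is_two_pretransitive_iff.1 hNt
        (show a ≠ r • a from fun e => hr1 (hRs a r hr e.symm))
        (show a ≠ s • a from fun e => hs1 (hRs a s hs e.symm))
      refine ⟨k, inv_mul_eq_one.mp (hRs a _ (R.mul_mem (R.inv_mem (hRn.conj_mem r hr k)) hs) ?_)⟩
      rw [mul_smul, inv_smul_eq_iff, mul_smul, mul_smul, show k⁻¹ • a = a by rw [inv_smul_eq_iff, hka], hkr]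
    -- the subgroup is a `p`-group
    have hRne : R ≠ ⊥ := by
      rintro rfl
      obtain ⟨⟨k, hk⟩, hkab⟩ := hRt.exists_smul_eq a b
      rw [Subgroup.mem_bot] at hk; subst hk
      exact hab ((one_smul N a).symm.trans hkab)
    obtain ⟨p, hp, hpdvd⟩ := Nat.exists_prime_and_dvd
      (show Nat.card R ≠ 1 from fun e => hRne (Subgroup.eq_bot_of_card_eq R e))
    haveI := Fact.mk hp
    obtain ⟨r, hr⟩ := exists_prime_orderOf_dvd_card' p hpdvd
    rw [← Subgroup.orderOf_coe] at hr
    have hr1 : (r : N) ≠ 1 := fun e => by rw [e, orderOf_one] at hr; exact hp.one_lt.ne hr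
    have hP : IsPGroup p R := by
      intro s
      refine ⟨1, ?_⟩
      rw [pow_one]
      by_cases hs1 : s = 1
      · rw [hs1, one_pow]
      obtain ⟨k, hk⟩ := hconj r r.2 hr1 s s.2 (fun e => hs1 (Subtype.ext e))
      exact Subtype.ext (show (s : N) ^ p = 1 by
        rw [← hk, conj_pow, ← hr, pow_orderOf_eq_one, mul_one, mul_inv_cancel])
    haveI : Nontrivial R := (Subgroup.nontrivial_iff_ne_bot R).mpr hRne
    -- it is the only one
    have huniq : ∀ R' : Subgroup N, R'.Normal → MulAction.IsPretransitive R' Ω →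
        (∀ c : Ω, ∀ r ∈ R', r • c = c → r = 1) → R ≤ R' := by
      intro R' hR'n hR't hR's
      by_contra hne
      have hinf : ∀ z ∈ R, z ∈ R' → z = 1 := by
        intro z hz hz'
        by_contra hz1
        refine hne fun s hs => ?_
        by_cases hs1 : s = 1
        · exact hs1 ▸ R'.one_mem
        · obtain ⟨k, hk⟩ := hconj z hz hz1 s hs hs1
          exact hk ▸ hR'n.conj_mem z hz' k
      have hcomm : ∀ z ∈ R, ∀ w ∈ R', z * w = w * z := by
        intro z hz w hw
        have h1 : z * w * z⁻¹ * w⁻¹ ∈ R := by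
          rw [mul_assoc, mul_assoc]
          exact R.mul_mem hz (by rw [← mul_assoc]; exact hRn.conj_mem _ (R.inv_mem hz) w)
        have h2' : z * w * z⁻¹ * w⁻¹ ∈ R' := R'.mul_mem (hR'n.conj_mem _ hw z) (R'.inv_mem hw)
        exact commutatorElement_eq_one_iff_mul_comm.mp (hinf _ h1 h2')
      haveI := IsPGroup.center_nontrivial hP
      obtain ⟨⟨z, hz⟩, hz1⟩ := exists_ne (1 : Subgroup.center R)
      -- a central element agrees with an element of the other subgroup
      obtain ⟨⟨w, hw⟩, hwa⟩ := hR't.exists_smul_eq a ((z : N) • a)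
      have hwa : w • a = (z : N) • a := hwa
      apply hz1
      have hzw : (z : N) = w := by
        refine inv_mul_eq_one.mp (FaithfulSMul.eq_of_smul_eq_smul (α := Ω) fun y => ?_) |>.symm
        obtain ⟨⟨s, hs⟩, rfl⟩ := hRt.exists_smul_eq a y
        show (w⁻¹ * (z : N)) • (s • a) = (1 : N) • (s • a)
        have e1 : (z : N) * s = s * z := congrArg Subtype.val (Subgroup.mem_center_iff.mp hz ⟨s, hs⟩).symm
        have e2 : s * w = w * s := hcomm s hs w hw
        rw [one_smul, mul_smul, inv_smul_eq_iff, ← mul_smul (z : N), e1, ← mul_smul w, ← e2, mul_smul,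
          mul_smul, hwa]
      exact Subtype.ext (Subtype.ext (hinf _ z.2 (hzw ▸ hw)))
    have hnorm : (R.map N.subtype).Normal := by
      refine ⟨fun y hy g => ?_⟩
      obtain ⟨y, hyR, rfl⟩ := hy
      let φ : N ≃* N := MulAut.conjNormal g
      have hφs : ∀ (z : N) (c : Ω), φ z • c = g • (z • (g⁻¹ • c)) := fun z c => by
        show ((φ z : N) : G) • c = _
        rw [MulAut.conjNormal_apply, mul_smul, mul_smul]
        rfl
      let R' := R.comap φ.toMonoidHom
      have hR'n : R'.Normal := hRn.comap _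
      have hR't : MulAction.IsPretransitive R' Ω := by
        refine ⟨fun c c' => ?_⟩
        obtain ⟨⟨s, hs⟩, hsc⟩ := hRt.exists_smul_eq (g • c) (g • c')
        refine ⟨⟨φ.symm s, show φ (φ.symm s) ∈ R by rw [φ.apply_symm_apply]; exact hs⟩, ?_⟩
        have h1 := hφs (φ.symm s) (g • c)
        rw [φ.apply_symm_apply, inv_smul_smul] at h1
        exact MulAction.injective g (h1.symm.trans hsc)
      have hR's : ∀ c : Ω, ∀ r ∈ R', r • c = c → r = 1 := by
        intro c r hr hrc
        have h1 := hRs (g • c) (φ r) hr (by rw [hφs, inv_smul_smul, hrc])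
        exact φ.map_eq_one_iff.mp h1
      exact ⟨φ y, huniq R' hR'n hR't hR's hyR, MulAut.conjNormal_apply g y⟩
    have htr : MulAction.IsPretransitive (R.map N.subtype) Ω := by
      refine ⟨fun c c' => ?_⟩
      obtain ⟨⟨s, hs⟩, hsc⟩ := hRt.exists_smul_eq c c'
      exact ⟨⟨(s : G), s, hs, rfl⟩, hsc⟩
    obtain ⟨c₀, hc₀⟩ := h5 _ hnorm htr
    obtain ⟨⟨y, s, hsR, rfl⟩, hy, hy1⟩ := (Subgroup.bot_or_exists_ne_one _).resolve_left hc₀
    exact hy1 (Subtype.ext (show (s : G) = 1 by rw [hRs c₀ s hsR hy]; rfl))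
  have hNZ : IsZassenhausGroup N Ω := by
    refine ⟨hNf, hNt, fun g p q r h1 h2 h4 e1 e2 e3 => Subtype.ext (h3 g p q r h1 h2 h4 e1 e2 e3),
      ⟨⟨x, hxN⟩, fun e => hx1 (congrArg Subtype.val e), a, b, hab, hx.1, hx.2⟩, fun R hRn hRt => ?_⟩
    by_contra hh
    push Not at hh
    exact hreg R hRn hRt fun c r hr hrc =>
      congrArg Subtype.val ((Subgroup.eq_bot_iff_forall _).mp (hh c) ⟨r, hr⟩ hrc)
  refine ⟨N, hNn, hHN, ?_, hNZ⟩
  haveI : Nontrivial N := (Subgroup.nontrivial_iff_ne_bot N).mpr hN1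
  refine ⟨fun T hT => or_iff_not_imp_left.mpr fun hT1 => ?_⟩
  haveI := hT
  -- `T` contains all conjugates of the kernel
  have hall : N ≤ T.map N.subtype := by
    refine Subgroup.closure_le _ |>.mpr ?_
    rintro y hy
    obtain ⟨u, hu, hconj⟩ := Group.mem_conjugatesOfSet_iff.mp hy
    obtain ⟨g, rfl⟩ := isConj_iff.mp hconj
    let H' : Subgroup N := (H.map (MulAut.conj g).toMonoidHom).subgroupOf N
    have hle : H.map (MulAut.conj g).toMonoidHom ≤ N := by
      rintro _ ⟨w, hw, rfl⟩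
      exact hNn.conj_mem w (hHN hw) g
    have hH'mem : ∀ w : N, w ∈ H' ↔ g⁻¹ * (w : G) * g ∈ H := fun w => by
      rw [Subgroup.mem_subgroupOf, Subgroup.mem_map_equiv, MulAut.conj_symm_apply]
    have hyN : g * u * g⁻¹ ∈ N := hNn.conj_mem u (hHN hu) g
    have hgab : g • a ≠ g • b := fun e => hab (MulAction.injective g e)
    have h1 := (normal_contains hNZ hgab H' ?_ ?_ ?_ ?_ T hT1).1
    · exact ⟨⟨_, hyN⟩, h1 ((hH'mem _).mpr (by simpa [mul_assoc] using hu)), rfl⟩
    · intro w hw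
      have hwa : (g⁻¹ * (w : G) * g) • a = a := hHa ((hH'mem w).mp hw)
      rw [mul_smul, mul_smul, inv_smul_eq_iff] at hwa
      exact hwa
    · rw [Nat.card_congr (Subgroup.subgroupOfEquivOfLe hle).toEquiv,
        Subgroup.card_map_of_injective (MulAut.conj g).injective]
      exact hHcard
    · intro w hw hw1 c hwc
      have := hHfix _ ((hH'mem w).mp hw) (fun e => hw1 (Subtype.ext (by
        calc (w : G) = g * (g⁻¹ * w * g) * g⁻¹ := by group
          _ = 1 := by rw [e]; group))) (g⁻¹ • c) (by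
        rw [mul_smul, mul_smul, smul_inv_smul, show (w : G) • c = c from hwc])
      rw [inv_smul_eq_iff] at this
      exact this
    · intro w hw v hv
      have := hHc _ ((hH'mem w).mp hw) _ ((hH'mem v).mp hv)
      refine Subtype.ext (show (w : G) * v = v * w from ?_)
      calc (w : G) * v = g * ((g⁻¹ * w * g) * (g⁻¹ * v * g)) * g⁻¹ := by group
        _ = (v : G) * w := by rw [this]; group
  rw [eq_top_iff]
  intro z _
  obtain ⟨z', hz', hzz⟩ := hall z.2
  rwa [← (Subtype.ext hzz : z' = z)]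

/-- With an odd two-point stabilizer the kernel has at most two orbits of it, and in the case of two
the group is simple. -/
theorem bound (hodd : Odd (Nat.card ↥(MulAction.stabilizer G a ⊓ MulAction.stabilizer G b : Subgroup G))) :
    Fintype.card Ω - 2 ≤ 2 * Nat.card ↥(MulAction.stabilizer G a ⊓ MulAction.stabilizer G b : Subgroup G) ∧
      (Fintype.card Ω - 2 = 2 * Nat.card ↥(MulAction.stabilizer G a ⊓ MulAction.stabilizer G b : Subgroup G) →
        IsSimpleGroup G) := by
  classical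
  obtain ⟨N, hNn, hHN, hNs, hNZ⟩ := exists_simple hZ hab H hHa hHcard hHfix hHc
  haveI := hNs
  haveI := Fintype.ofFinite N
  set D : Subgroup G := MulAction.stabilizer G a ⊓ MulAction.stabilizer G b with hD
  have he : Nat.card ↥(MulAction.stabilizer N a ⊓ MulAction.stabilizer N b : Subgroup N) =
      Nat.card ↥(N ⊓ D : Subgroup G) :=
    Nat.card_congr ⟨fun g => ⟨(g.1 : G), g.1.2, g.2⟩, fun g => ⟨⟨g.1, g.2.1⟩, g.2.2⟩,
      fun _ => rfl, fun _ => rfl⟩
  have hdvd : Nat.card ↥(N ⊓ D : Subgroup G) ∣ Nat.card D := Subgroup.card_dvd_of_le inf_le_right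
  have hb := bound_simple hNZ hab (he ▸ hodd.of_dvd_nat hdvd) (H.subgroupOf N)
    (fun u hu => hHa hu) (by rw [Nat.card_congr (Subgroup.subgroupOfEquivOfLe hHN).toEquiv]; exact hHcard)
    (fun u hu hu1 c hc => hHfix u hu (fun e => hu1 (Subtype.ext e)) c hc)
    (fun u hu v hv => Subtype.ext (hHc _ hu _ hv))
  rw [he] at hb
  have hle := Nat.le_of_dvd Nat.card_pos hdvd
  refine ⟨by omega, fun heq => ?_⟩
  have hDN : D ≤ N := inf_eq_right.mp (Subgroup.eq_of_le_of_card_ge inf_le_right (by omega))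
  haveI := normal_transitive hZ.1 hZ.2.1 N (fun hN => by
    have := hNZ.2.2.2.1
    obtain ⟨g, hg, -⟩ := this
    exact hg (Subtype.ext (Subgroup.mem_bot.mp (hN ▸ g.2))))
  have htop : N = ⊤ := by
    rw [eq_top_iff]
    intro g _
    obtain ⟨k, hk⟩ := MulAction.exists_smul_eq N (g • a) a
    obtain ⟨u, hu, d, hd, hkg⟩ := stab_decomp hab H hHa hHcard hHfix
      (show ((k : G) * g) • a = a by rw [mul_smul]; exact hk)
    rw [show g = (k : G)⁻¹ * (u * d) by rw [← hkg]; group]
    exact N.mul_mem (N.inv_mem k.2) (N.mul_mem (hHN hu) (hDN hd))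
  haveI : Nontrivial G := (Subtype.val_injective : Function.Injective (Subtype.val : N → G)).nontrivial
  exact IsSimpleGroup.isSimpleGroup_of_surjective (H := G) N.subtype fun g => ⟨⟨g, htop ▸ Subgroup.mem_top g⟩, rfl⟩

end Cfsg.Lib.Perm.ZasAbelian
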