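import Cfsg.Agent.Lib.Perm.ZasAbelian.Swap

/-!
# The kernel as the additive group of a field
-/

set_option autoImplicit false
set_option linter.style.haveILetI false

namespace Cfsg.Lib.Perm.ZasAbelian

open Cfsg Cfsg.Lib.Char

set_option maxHeartbeats 1000000 in
/-- A finite abelian group with an abelian group of fixed-point-free automorphisms of order `d`, where
it has `2 d + 1` elements: it is a field, the automorphisms being the multiplications by squares. -/
theorem exists_field_coord {V : Type*} [AddCommGroup V] [Finite V] {D : Type*} [CommGroup D] [Finite D]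
    (ρ : D →* AddMonoid.End V) (hfpf : ∀ x : D, x ≠ 1 → ∀ v : V, ρ x v = v → v = 0)
    (hcard : Nat.card V = 2 * Nat.card D + 1)
    (K : Type) [Field K] [Fintype K] (hK : Fintype.card K = Nat.card V) :
    ∃ (ι : K ≃+ V) (χ : D →* K), Function.Injective χ ∧ (∀ x a, ρ x (ι a) = ι (χ x * a)) ∧
      ∀ s : K, s ≠ 0 → (IsSquare s ↔ ∃ x, χ x = s) := by
  classical
  haveI := Fintype.ofFinite V
  haveI := Fintype.ofFinite D
  obtain ⟨d, hd⟩ : ∃ d, Nat.card D = d := ⟨_, rfl⟩
  rw [hd] at hcard
  have hd0 : 0 < d := hd ▸ Nat.card_pos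
  -- orbits of nonzero vectors
  have horb : ∀ v : V, v ≠ 0 → Function.Injective fun x : D => ρ x v := by
    intro v hv x y hxy
    by_contra hne
    refine hv (hfpf (y⁻¹ * x) (fun e => hne (inv_mul_eq_one.mp e).symm) v ?_)
    rw [map_mul, show (ρ y⁻¹ * ρ x) v = ρ y⁻¹ (ρ x v) from rfl, show ρ x v = ρ y v from hxy,
      ← show (ρ y⁻¹ * ρ y) v = ρ y⁻¹ (ρ y v) from rfl, ← map_mul, inv_mul_cancel, map_one]
    rfl
  have hzero : ∀ (x : D) (v : V), ρ x v = 0 → v = 0 := by
    intro x v h'
    calc v = (ρ x⁻¹ * ρ x) v := by rw [← map_mul, inv_mul_cancel, map_one]; rfl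
      _ = ρ x⁻¹ (ρ x v) := rfl
      _ = 0 := by rw [h', map_zero]
  have hirr : ∀ W : AddSubgroup V, (∀ x : D, ∀ v ∈ W, ρ x v ∈ W) → W = ⊥ ∨ W = ⊤ := by
    intro W hW
    refine or_iff_not_imp_left.mpr fun hne => ?_
    obtain ⟨v, hv, hv0⟩ := (AddSubgroup.bot_or_exists_ne_zero W).resolve_left hne
    have h1 : d + 1 ≤ Nat.card W := by
      have hinj : Function.Injective (fun o : Option D => (o.elim ⟨0, W.zero_mem⟩ fun x => ⟨ρ x v, hW x v hv⟩ : W)) := by
        rintro (_ | x) (_ | y) h' <;> simp only [Option.elim_none, Option.elim_some, Subtype.mk.injEq] at h'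
        · rfl
        · exact absurd (hzero y v h'.symm) hv0
        · exact absurd (hzero x v h') hv0
        · rw [horb v hv0 h']
      have := Nat.card_le_card_of_injective _ hinj
      rwa [Finite.card_option, hd] at this
    apply AddSubgroup.eq_top_of_card_eq
    obtain ⟨k, hk⟩ := W.card_addSubgroup_dvd_card
    have hk1 : k = 1 := by
      rcases Nat.lt_or_ge k 2 with h2 | h2
      · rcases Nat.eq_zero_or_pos k with rfl | h3
        · rw [mul_zero] at hk; omega
        · omega
      · have : (d + 1) * 2 ≤ Nat.card W * k := Nat.mul_le_mul h1 h2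
        omega
    rw [hk, hk1, mul_one]
  -- the commutant
  let R : Subring (AddMonoid.End V) := Subring.centralizer (Set.range ρ)
  have hRmem : ∀ {φ : AddMonoid.End V}, φ ∈ R → ∀ x v, ρ x (φ v) = φ (ρ x v) := fun hφ x v =>
    DFunLike.congr_fun (Subring.mem_centralizer_iff.mp hφ _ ⟨x, rfl⟩) v
  have hinjφ : ∀ φ : R, φ ≠ 0 → Function.Injective (φ : AddMonoid.End V) := by
    intro φ hφ
    rcases hirr (φ : AddMonoid.End V).ker (fun x v hv => by
      show (φ : AddMonoid.End V) (ρ x v) = 0
      rw [← hRmem φ.2, show (φ : AddMonoid.End V) v = 0 from hv, map_zero]) with h' | h'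
    · exact (AddMonoidHom.ker_eq_bot_iff _).mp h'
    · refine absurd (Subtype.ext (AddMonoidHom.ext fun v => ?_)) hφ
      have : v ∈ (φ : AddMonoid.End V).ker := h' ▸ AddSubgroup.mem_top v
      exact this
  haveI : Nontrivial V := Finite.one_lt_card_iff_nontrivial.mp (by omega)
  haveI : Nontrivial R := ⟨⟨1, 0, fun e => by
    obtain ⟨v, hv⟩ := exists_ne (0 : V)
    exact hv (DFunLike.congr_fun (congrArg Subtype.val e) v)⟩⟩
  haveI : NoZeroDivisors R := ⟨fun {φ ψ} h' => by
    by_contra hh
    push Not at hh
    refine hh.2 (Subtype.ext (AddMonoidHom.ext fun v => hinjφ φ hh.1 ?_))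
    show (φ : AddMonoid.End V) ((ψ : AddMonoid.End V) v) = (φ : AddMonoid.End V) 0
    rw [map_zero]
    exact DFunLike.congr_fun (congrArg Subtype.val h') v⟩
  haveI : IsDomain R := NoZeroDivisors.to_isDomain R
  haveI : Finite (AddMonoid.End V) := Finite.of_injective _ DFunLike.coe_injective
  letI : Field R := (Finite.isDomain_to_isField R).toField
  haveI : Fintype R := Fintype.ofFinite R
  -- the automorphisms lie in the commutant
  let r : D →* R :=
    { toFun := fun x => ⟨ρ x, Subring.mem_centralizer_iff.mpr fun _ ⟨y, hy⟩ => by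
        rw [← hy, ← map_mul, ← map_mul, mul_comm]⟩
      map_one' := Subtype.ext ρ.map_one
      map_mul' := fun x y => Subtype.ext (ρ.map_mul x y) }
  obtain ⟨v₀, hv₀⟩ := exists_ne (0 : V)
  let ev : R →+ V :=
    { toFun := fun φ => (φ : AddMonoid.End V) v₀
      map_zero' := rfl
      map_add' := fun _ _ => rfl }
  have hev : Function.Injective ev := by
    intro φ ψ h'
    by_contra hne
    refine hv₀ (hinjφ (φ - ψ) (sub_ne_zero.mpr hne) ?_)
    rw [map_zero]
    show (φ : AddMonoid.End V) v₀ - (ψ : AddMonoid.End V) v₀ = 0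
    exact sub_eq_zero.mpr h'
  -- counting
  have hRge : d + 1 ≤ Nat.card R := by
    have h1 : Function.Injective (fun o : Option D => o.elim (0 : R) r) := by
      rintro (_ | x) (_ | y) h' <;> simp only [Option.elim_none, Option.elim_some] at h'
      · rfl
      · exact absurd (hzero y v₀ (DFunLike.congr_fun (congrArg Subtype.val h') v₀).symm) hv₀
      · exact absurd (hzero x v₀ (DFunLike.congr_fun (congrArg Subtype.val h') v₀)) hv₀
      · exact congrArg some (horb v₀ hv₀ (congrArg ev h'))
    have := Nat.card_le_card_of_injective _ h1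
    rwa [Finite.card_option, hd] at this
  have hsurj : Function.Surjective ev := by
    letI : Module R V :=
      { smul := fun φ v => (φ : AddMonoid.End V) v
        one_smul := fun _ => rfl
        mul_smul := fun _ _ _ => rfl
        smul_zero := fun φ => map_zero (φ : AddMonoid.End V)
        smul_add := fun φ => map_add (φ : AddMonoid.End V)
        add_smul := fun _ _ _ => rfl
        zero_smul := fun _ => rfl }
    have hVR : Nat.card V = Nat.card R ^ Module.finrank R V := Module.natCard_eq_pow_finrank
    have hpos : 0 < Module.finrank R V := Module.finrank_pos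
    have h2 : Module.finrank R V < 2 := by
      by_contra hh
      have : (d + 1) ^ 2 ≤ Nat.card R ^ Module.finrank R V :=
        (Nat.pow_le_pow_left hRge 2).trans (Nat.pow_le_pow_right (Nat.card_pos) (by omega))
      nlinarith
    rw [show Module.finrank R V = 1 by omega, pow_one] at hVR
    exact ((Nat.bijective_iff_injective_and_card ev).mpr ⟨hev, hVR.symm⟩).2
  let E : R ≃+ V := AddEquiv.ofBijective ev ⟨hev, hsurj⟩
  let τ : K ≃+* R := FiniteField.ringEquivOfCardEq (K := K) (K' := R) (by
    rw [hK, ← Nat.card_eq_fintype_card]; exact (Nat.card_congr E.toEquiv).symm)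
  let χ : D →* K := (τ.symm : R →* K).comp r
  have hχ : Function.Injective χ := fun x y h' =>
    horb v₀ hv₀ (congrArg ev (τ.symm.injective h'))
  refine ⟨τ.toAddEquiv.trans E, χ, hχ, fun x a => ?_, fun s hs => ?_⟩
  · show ρ x ((τ a : R).1 v₀) = (τ (τ.symm (r x) * a) : R).1 v₀
    rw [map_mul, τ.apply_symm_apply]
    rfl
  · have hK2 : ringChar K ≠ 2 := fun h2 => by
      have := (FiniteField.even_card_iff_char_two (F := K)).mp h2
      omega
    have hhalf : Fintype.card K / 2 = d := by omega
    have hsub : (Finset.univ.image χ : Finset K) ⊆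
        Finset.univ.filter fun s : K => s ^ d = 1 := by
      intro s hs'
      obtain ⟨x, -, rfl⟩ := Finset.mem_image.mp hs'
      refine Finset.mem_filter.mpr ⟨Finset.mem_univ _, ?_⟩
      rw [← map_pow, ← hd, pow_card_eq_one', map_one]
    have hle : (Finset.univ.filter fun s : K => s ^ d = 1).card ≤ d := by
      refine le_trans (Finset.card_le_card fun s hs' => ?_) (Polynomial.card_nthRoots d (1 : K) |> fun h' =>
        le_trans (Multiset.toFinset_card_le _) h')
      rw [Multiset.mem_toFinset, Polynomial.mem_nthRoots hd0]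
      exact (Finset.mem_filter.mp hs').2
    have heq : (Finset.univ.image χ : Finset K) = Finset.univ.filter fun s : K => s ^ d = 1 := by
      refine Finset.eq_of_subset_of_card_le hsub ?_
      rw [Finset.card_image_of_injective _ hχ, Finset.card_univ, ← Nat.card_eq_fintype_card, hd]
      exact hle
    rw [FiniteField.isSquare_iff hK2 hs, hhalf]
    have := Finset.ext_iff.mp heq s
    simpa [eq_comm] using this.symm

end Cfsg.Lib.Perm.ZasAbelian
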