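import Cfsg.Agent.Lib.Perm.ZasAbelian.Coord
import Cfsg.Agent.Lib.Linear.PSLSmall
import Cfsg.Agent.Lib.Small.PSLTwoRecog

/-!
# The identification with `PSL(2, q)`
-/

set_option autoImplicit false
set_option linter.style.haveILetI false

namespace Cfsg.Lib.Perm.ZasAbelian

open Cfsg Cfsg.Lib.Char
open scoped MatrixGroups OnePoint
open OnePoint Matrix

variable {G Ω : Type*} [Group G] [Finite G] [MulAction G Ω] [Fintype Ω]

/-- Coordinates on the points other than `a`: translations and squares. -/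
structure Coord (G Ω K : Type*) [Group G] [MulAction G Ω] [Field K] (a b : Ω) (H : Subgroup G) where
  pt : K → Ω
  τ : K → G
  pt_zero : pt 0 = b
  pt_inj : Function.Injective pt
  pt_ne : ∀ x, pt x ≠ a
  pt_surj : ∀ c, c ≠ a → ∃ x, pt x = c
  τ_inf : ∀ x, τ x • a = a
  τ_pt : ∀ x y, τ x • pt y = pt (x + y)
  τ_mem : ∀ x, τ x ∈ H
  τ_surj : ∀ u ∈ H, ∃ x, τ x = u
  scale : ∀ s : K, s ≠ 0 → IsSquare s → ∃ g : G, g • a = a ∧ g • b = b ∧ ∀ y, g • pt y = pt (s * y)
  affine : ∀ g : G, g • a = a → ∃ s w : K, s ≠ 0 ∧ IsSquare s ∧ ∀ y, g • pt y = pt (s * y + w)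

variable (hZ : IsZassenhausGroup G Ω) {a b : Ω} (hab : a ≠ b)
  (hd : Fintype.card Ω - 2 = 2 * Nat.card ↥(MulAction.stabilizer G a ⊓ MulAction.stabilizer G b : Subgroup G))
  (H : Subgroup G)
  (hHa : H ≤ MulAction.stabilizer G a) (hHcard : Nat.card H + 1 = Fintype.card Ω)
  (hHfix : ∀ u ∈ H, u ≠ 1 → ∀ c : Ω, u • c = c → c = a)
  (hHc : ∀ x ∈ H, ∀ y ∈ H, x * y = y * x)

local notation "DD" => (MulAction.stabilizer G a ⊓ MulAction.stabilizer G b : Subgroup G)

include hZ hab hd hHa hHcard hHfix hHc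

theorem exists_coord (K : Type) [Field K] [Fintype K] (hK : Fintype.card K = Nat.card H) :
    Nonempty (Coord G Ω K a b H) := by
  classical
  obtain ⟨-, hN⟩ := Cfsg.Agent.S0878.result hZ a H hHa hHcard hHfix
  have hnorm : ∀ x : G, x • a = a → ∀ w ∈ H, x * w * x⁻¹ ∈ H := fun x hx w hw =>
    ((Subgroup.mem_normalizer_iff.mp (hN.symm ▸ hx : x ∈ Subgroup.normalizer (H : Set G))) w).mp hw
  letI : CommGroup H := { (inferInstance : Group H) with
    mul_comm := fun x y => Subtype.ext (hHc _ x.2 _ y.2) }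
  letI : CommGroup ↥DD := { (inferInstance : Group ↥DD) with
    mul_comm := fun x y => Subtype.ext (DD_comm hZ hab hd H hHa hHcard hHfix hHc x.2 y.2) }
  let ρ : ↥DD →* AddMonoid.End (Additive H) :=
    { toFun := fun x => MonoidHom.toAdditive
        { toFun := fun u => ⟨(x : G) * u * (x : G)⁻¹, hnorm x x.2.1 u u.2⟩
          map_one' := Subtype.ext (by simp)
          map_mul' := fun u v => Subtype.ext (by simp [mul_assoc]) }
      map_one' := AddMonoidHom.ext fun u => congrArg Additive.ofMul (Subtype.ext (by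
        show (1 : G) * _ * (1 : G)⁻¹ = _
        simp <;> rfl))
      map_mul' := fun x y => AddMonoidHom.ext fun u => congrArg Additive.ofMul (Subtype.ext (by
        show (x : G) * y * _ * ((x : G) * y)⁻¹ = (x : G) * ((y : G) * _ * (y : G)⁻¹) * (x : G)⁻¹
        group)) }
  have hfpf : ∀ x : ↥DD, x ≠ 1 → ∀ v : Additive H, ρ x v = v → v = 0 := by
    intro x hx v hv
    by_contra hv0
    have h1 : (x : G) * (Additive.toMul v : H) * (x : G)⁻¹ = (Additive.toMul v : H) :=
      congrArg Subtype.val (congrArg Additive.toMul hv)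
    have h2 : (x : G) ∈ H := centralizer_le hZ hab H hHa hHcard hHfix hHc (Additive.toMul v : H).2
      (fun e => hv0 (congrArg Additive.ofMul (Subtype.ext e : (Additive.toMul v : H) = 1)))
      (Subgroup.mem_centralizer_singleton_iff.mpr (mul_inv_eq_iff_eq_mul.mp h1))
    exact hab (hHfix x h2 (fun e => hx (Subtype.ext e)) b x.2.2).symm
  have hcard : Nat.card (Additive H) = 2 * Nat.card ↥DD + 1 := by
    have := zas_two_lt_card hZ
    show Nat.card H = _
    omega
  obtain ⟨ι, χ, hχ, hρ, hsq⟩ := exists_field_coord ρ hfpf hcard K hK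
  let τ : K → G := fun x => ((Additive.toMul (ι x) : H) : G)
  have hτH : ∀ x, τ x ∈ H := fun x => (Additive.toMul (ι x) : H).2
  have hτadd : ∀ x y, τ (x + y) = τ x * τ y := fun x y => by simp [τ, map_add]
  have hτinj : Function.Injective τ := fun x y h' => ι.injective (Additive.toMul.injective (Subtype.ext h'))
  have hscale : ∀ (x : ↥DD) y, (x : G) • (τ y • b) = τ (χ x * y) • b := by
    intro x y
    have h1 : (x : G) * τ y * (x : G)⁻¹ = τ (χ x * y) :=
      congrArg (fun v : Additive H => ((Additive.toMul v : H) : G)) (hρ x y)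
    have h2 : (x : G) • b = b := x.2.2
    rw [← h1, mul_smul, mul_smul, show (x : G)⁻¹ • b = b by rw [inv_smul_eq_iff, h2]]
  refine ⟨{
    pt := fun x => τ x • b
    τ := τ
    pt_zero := by simp [τ]
    pt_inj := fun x y h' => hτinj (by
      by_contra hne
      exact hab (hHfix ((τ y)⁻¹ * τ x) (H.mul_mem (H.inv_mem (hτH y)) (hτH x))
        (fun e => hne (inv_mul_eq_one.mp e).symm) b (by
          rw [mul_smul, show τ x • b = τ y • b from h', inv_smul_smul])).symm)
    pt_ne := fun x e => hab (MulAction.injective (τ x)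
      ((show τ x • a = a from hHa (hτH x)).trans e.symm))
    pt_surj := fun c hc => by
      obtain ⟨u, hu, huc⟩ := kernel_transitive hab H hHa hHcard hHfix hc
      refine ⟨ι.symm (Additive.ofMul ⟨u, hu⟩), ?_⟩
      simpa [τ] using huc
    τ_inf := fun x => hHa (hτH x)
    τ_pt := fun x y => by rw [hτadd, mul_smul]
    τ_mem := hτH
    τ_surj := fun u hu => ⟨ι.symm (Additive.ofMul ⟨u, hu⟩), by simp [τ]⟩
    scale := fun s hs hs' => by
      obtain ⟨x, rfl⟩ := (hsq s hs).mp hs'
      exact ⟨x, x.2.1, x.2.2, hscale x⟩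
    affine := fun g hg => by
      obtain ⟨u, hu, x, hx, rfl⟩ := stab_decomp hab H hHa hHcard hHfix hg
      have hs0 : χ ⟨x, hx⟩ ≠ 0 := fun e => by
        have h1 := map_one χ
        rw [← inv_mul_cancel (⟨x, hx⟩ : ↥DD), map_mul, e, mul_zero] at h1
        exact zero_ne_one h1
      refine ⟨χ ⟨x, hx⟩, ι.symm (Additive.ofMul ⟨u, hu⟩), hs0, (hsq _ hs0).mpr ⟨_, rfl⟩, fun y => ?_⟩
      rw [mul_smul, show x • τ y • b = _ from hscale ⟨x, hx⟩ y, add_comm, hτadd, mul_smul]
      simp [τ] }⟩

set_option maxHeartbeats 1000000 in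
theorem exists_swap_formula (K : Type) [Field K] [Fintype K] (hK2 : ringChar K ≠ 2)
    (hK : Fintype.card K + 1 = Fintype.card Ω) (C : Coord G Ω K a b H) :
    ∃ (t : G) (c : K), c ≠ 0 ∧ IsSquare (-c) ∧ t • a = b ∧ t • b = a ∧
      ∀ x : K, x ≠ 0 → t • C.pt x = C.pt (c / x) := by
  classical
  have hinvol : ∀ g : G, g • a = b → g • b = a → ∀ z : Ω, g • (g • z) = z := fun g h1 h2 z => by
    rw [← mul_smul, swap_sq hZ hab hd H hHa hHcard hHfix hHc h1 h2, one_smul]
  -- commutation of a swap with the scalings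
  have hcomm : ∀ g : G, g • a = b → g • b = a → ∀ s : K, s ≠ 0 → IsSquare s → ∀ x y : K,
      g • C.pt x = C.pt y → g • C.pt (s * x) = C.pt (s⁻¹ * y) := by
    intro g h1 h2 s hs hs' x y hxy
    obtain ⟨k, hka, hkb, hk⟩ := C.scale s hs hs'
    have h3 := swap_inverts hZ hab hd H hHa hHcard hHfix hHc h1 h2 (x := k) ⟨hka, hkb⟩
    have h4 : g • (k • C.pt x) = k⁻¹ • (g • C.pt x) := by
      rw [← mul_smul, ← mul_smul, ← h3]; congr 1; group
    rw [hk, hxy] at h4
    rw [h4, inv_smul_eq_iff, hk, ← mul_assoc, mul_inv_cancel₀ hs, one_mul]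
  have hprod : ∀ x y : K, ¬ IsSquare x → ¬ IsSquare y → IsSquare (x * y) := by
    intro x y hx hy
    have hx0 : x ≠ 0 := fun e => hx (e ▸ IsSquare.zero)
    have hy0 : y ≠ 0 := fun e => hy (e ▸ IsSquare.zero)
    have h1 := quadraticChar_neg_one_iff_not_isSquare.mpr hx
    have h2 := quadraticChar_neg_one_iff_not_isSquare.mpr hy
    refine (quadraticChar_one_iff_isSquare (mul_ne_zero hx0 hy0)).mp ?_
    rw [map_mul, h1, h2]; norm_num
  -- the value at a point
  have hval : ∀ g : G, g • a = b → g • b = a → ∀ x : K, x ≠ 0 → ∃ y : K, y ≠ 0 ∧ g • C.pt x = C.pt y := by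
    intro g h1 h2 x hx
    obtain ⟨y, hy⟩ := C.pt_surj (g • C.pt x) fun e => hx (C.pt_inj (MulAction.injective g
      (e.trans (h2.symm.trans (by rw [C.pt_zero])))))
    refine ⟨y, fun e => C.pt_ne x (MulAction.injective g ?_), hy.symm⟩
    show g • C.pt x = g • a
    rw [← hy, e, C.pt_zero, h1]
  obtain ⟨t₀, -, ht₀a, ht₀b⟩ := (Cfsg.Agent.S0740.result hZ hab).1
  -- a uniform formula
  obtain ⟨t, c, hc, hta, htb, hform⟩ : ∃ (t : G) (c : K), c ≠ 0 ∧ t • a = b ∧ t • b = a ∧
      ∀ x : K, x ≠ 0 → t • C.pt x = C.pt (c / x) := by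
    obtain ⟨α, hα0, hα⟩ := hval t₀ ht₀a ht₀b 1 one_ne_zero
    by_cases hαs : IsSquare α
    swap
    · refine ⟨t₀, α, hα0, ht₀a, ht₀b, fun x hx => ?_⟩
      by_cases hxs : IsSquare x
      · have h1 := hcomm t₀ ht₀a ht₀b x hx hxs 1 α hα
        rwa [mul_one, inv_mul_eq_div] at h1
      · have h1 : t₀ • C.pt α = C.pt 1 := by rw [← hα, hinvol t₀ ht₀a ht₀b]
        have hs : IsSquare (x / α) := by
          have h3 : IsSquare (x * α) := hprod x α hxs hαs
          obtain ⟨r, hr⟩ := h3
          exact ⟨r / α, by rw [div_mul_div_comm, ← hr]; field_simp⟩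
        have h2 := hcomm t₀ ht₀a ht₀b (x / α) (div_ne_zero hx hα0) hs α 1 h1
        rwa [div_mul_cancel₀ x hα0, mul_one, inv_div] at h2
    -- normalise
    obtain ⟨k, hka, hkb, hk⟩ := C.scale α⁻¹ (inv_ne_zero hα0) (by
      obtain ⟨r, hr⟩ := hαs; exact ⟨r⁻¹, by rw [← mul_inv, ← hr]⟩)
    set t := k * t₀ with ht
    have hta : t • a = b := by rw [ht, mul_smul, ht₀a, hkb]
    have htb : t • b = a := by rw [ht, mul_smul, ht₀b, hka]
    have ht1 : t • C.pt 1 = C.pt 1 := by rw [ht, mul_smul, hα, hk, inv_mul_cancel₀ hα0]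
    have hsqr : ∀ x : K, x ≠ 0 → IsSquare x → t • C.pt x = C.pt (1 / x) := fun x hx hxs => by
      have h1 := hcomm t hta htb x hx hxs 1 1 ht1
      rwa [mul_one, mul_one, inv_eq_one_div] at h1
    obtain ⟨n₀, hn₀⟩ := FiniteField.exists_nonsquare hK2
    have hn₀0 : n₀ ≠ 0 := fun e => hn₀ (e ▸ IsSquare.zero)
    obtain ⟨m₀, hm₀0, hm₀⟩ := hval t hta htb n₀ hn₀0
    have hm₀s : ¬ IsSquare m₀ := fun hs => by
      have h1 := hsqr m₀ hm₀0 hs
      rw [← hm₀, hinvol t hta htb] at h1
      refine hn₀ ?_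
      rw [C.pt_inj h1]
      obtain ⟨r, hr⟩ := hs
      exact ⟨1 / r, by rw [div_mul_div_comm, one_mul, ← hr]⟩
    set r := n₀ * m₀ with hr
    have hnsq : ∀ x : K, ¬ IsSquare x → t • C.pt x = C.pt (r / x) := by
      intro x hxs
      have hx : x ≠ 0 := fun e => hxs (e ▸ IsSquare.zero)
      obtain ⟨q, hq⟩ := hprod x n₀ hxs hn₀
      have h1 := hcomm t hta htb (x / n₀) (div_ne_zero hx hn₀0)
        ⟨q / n₀, by rw [div_mul_div_comm, ← hq]; field_simp⟩ n₀ m₀ hm₀
      rw [div_mul_cancel₀ x hn₀0] at h1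
      rw [h1, hr]
      congr 1
      field_simp
    refine ⟨t, 1, one_ne_zero, hta, htb, fun x hx => ?_⟩
    by_cases hxs : IsSquare x
    · exact hsqr x hx hxs
    suffices r = 1 by rw [hnsq x hxs, this]
    by_cases h1 : IsSquare (-1 : K)
    · -- the functional equation
      have hneg : t • C.pt (-1) = C.pt (-1) := by
        rw [hsqr (-1) (by simp) h1]; congr 1; norm_num
      have hta' : t • a = C.pt 0 := hta.trans C.pt_zero.symm
      have htb' : t • C.pt 0 = a := by rw [C.pt_zero, htb]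
      set k' := t * C.τ (-1) * (t * C.τ 1 * t) with hk'
      have hk'a : k' • a = a := by
        rw [hk', mul_smul, mul_smul t (C.τ (-1)), mul_smul (t * C.τ 1), mul_smul t (C.τ 1), hta',
          C.τ_pt, add_zero, ht1, C.τ_pt, neg_add_cancel, htb']
      obtain ⟨s, w, hs0, -, hk'⟩ := C.affine k' hk'a
      have e0 := hk' 0
      rw [mul_zero, zero_add, show k' = t * C.τ (-1) * (t * C.τ 1 * t) from rfl, mul_smul,
        mul_smul t (C.τ (-1)), mul_smul (t * C.τ 1), mul_smul t (C.τ 1), htb', C.τ_inf, hta',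
        C.τ_pt, add_zero, hneg] at e0
      have hw : w = -1 := (C.pt_inj e0).symm
      have e1 := hk' (-1)
      rw [show k' = t * C.τ (-1) * (t * C.τ 1 * t) from rfl, mul_smul, mul_smul t (C.τ (-1)),
        mul_smul (t * C.τ 1), mul_smul t (C.τ 1), hneg, C.τ_pt, add_neg_cancel, htb', C.τ_inf,
        hta'] at e1
      have hs1 : s = -1 := by
        have := C.pt_inj e1
        rw [hw] at this
        linear_combination this
      obtain ⟨y, hy0, hys, hy1⟩ : ∃ y : K, y ≠ 0 ∧ IsSquare y ∧ ¬ IsSquare (y + 1) := by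
        by_contra hall
        push Not at hall
        let S : AddSubgroup K :=
          { carrier := {y | IsSquare y}
            zero_mem' := IsSquare.zero
            add_mem' := fun {u v} hu hv => by
              show IsSquare (u + v)
              by_cases hv0 : v = 0
              · rw [hv0, add_zero]; exact hu
              by_cases hu0 : u = 0
              · rw [hu0, zero_add]; exact hv
              obtain ⟨p, hp⟩ := hu
              obtain ⟨q, hq⟩ := hv
              obtain ⟨o, ho⟩ := hall (u / v) (div_ne_zero hu0 hv0)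
                ⟨p / q, by rw [div_mul_div_comm, hp, hq]⟩
              refine ⟨o * q, ?_⟩
              calc u + v = (u / v + 1) * v := by field_simp
                _ = _ := by rw [ho, hq]; ring
            neg_mem' := fun {u} hu => by
              show IsSquare (-u)
              rw [← neg_one_mul]; exact h1.mul hu }
        obtain ⟨n, hn⟩ : Nat.card S ∣ Nat.card K := S.card_addSubgroup_dvd_card
        have hlt : Nat.card S < Nat.card K := by
          rw [Nat.card_eq_fintype_card, Nat.card_eq_fintype_card]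
          exact Fintype.card_subtype_lt (x := n₀) hn₀
        have hge : Nat.card K < 2 * Nat.card S := by
          have hmap : ∀ x : K, (⟨x * x, ⟨x, rfl⟩⟩ : S).1 = x * x := fun _ => rfl
          have h2 := Finset.card_le_mul_card_image (f := fun x : K => (⟨x * x, ⟨x, rfl⟩⟩ : S))
            ((Finset.univ : Finset K).erase 0) 2 fun v _ => by
            refine le_trans (Finset.card_le_card (t := (Polynomial.nthRoots 2 (v : K)).toFinset) fun x hx => ?_)
              ((Multiset.toFinset_card_le _).trans (Polynomial.card_nthRoots 2 _))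
            rw [Multiset.mem_toFinset, Polynomial.mem_nthRoots two_pos, pow_two,
              ← (Finset.mem_filter.mp hx).2]
          have h3 : (((Finset.univ : Finset K).erase 0).image fun x => (⟨x * x, ⟨x, rfl⟩⟩ : S)) ⊆
              (Finset.univ : Finset S).erase 0 := by
            intro v hv
            obtain ⟨x, hx, rfl⟩ := Finset.mem_image.mp hv
            refine Finset.mem_erase.mpr ⟨fun e => ?_, Finset.mem_univ _⟩
            exact Finset.ne_of_mem_erase hx (mul_self_eq_zero.mp (congrArg Subtype.val e))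
          have h4 := Finset.card_le_card h3
          rw [Finset.card_erase_of_mem (Finset.mem_univ _), Finset.card_univ] at h4
          rw [Finset.card_erase_of_mem (Finset.mem_univ _), Finset.card_univ] at h2
          rw [Nat.card_eq_fintype_card, Nat.card_eq_fintype_card]
          have : 0 < Fintype.card S := Fintype.card_pos
          omega
        rcases Nat.lt_or_ge n 2 with h2 | h2
        · interval_cases n <;> omega
        · have := Nat.mul_le_mul_left (Nat.card S) h2
          omega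
      have hy10 : y + 1 ≠ 0 := fun e => hy1 (e ▸ IsSquare.zero)
      have hu : 1 + 1 / y = (y + 1) / y := by field_simp
      have hus : ¬ IsSquare ((y + 1) / y) := fun ⟨o, ho⟩ => hy1 (by
        obtain ⟨q, hq⟩ := hys
        refine ⟨o * q, ?_⟩
        calc y + 1 = (y + 1) / y * y := by field_simp
          _ = _ := by rw [ho, hq]; ring)
      have e2 := hk' y
      rw [show k' = t * C.τ (-1) * (t * C.τ 1 * t) from rfl, mul_smul, mul_smul t (C.τ (-1)),
        mul_smul (t * C.τ 1), mul_smul t (C.τ 1), hsqr y hy0 hys, C.τ_pt, hu, hnsq _ hus, C.τ_pt] at e2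
      have e3 := congrArg (t • ·) e2
      simp only [hinvol t hta htb, hs1, hw] at e3
      have hns : ¬ IsSquare (-1 * y + -1) := fun ⟨o, ho⟩ => hy1 (by
        obtain ⟨q, hq⟩ := h1
        exact ⟨q * o, by linear_combination -ho + (o * o) * hq⟩)
      rw [hnsq _ hns] at e3
      have e4 := C.pt_inj e3
      have hz : (-1 : K) * y + -1 ≠ 0 := fun e => hns (e ▸ IsSquare.zero)
      rw [show (-1 : K) * y + -1 = -(y + 1) by ring, div_neg] at e4
      field_simp at e4
      have e5 : (r - 1) * (y + 1) = 0 := by linear_combination e4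
      exact sub_eq_zero.mp ((mul_eq_zero.mp e5).resolve_right hy10)
    · -- an involution would fix two points
      exfalso
      have hodd : Odd (Nat.card ↥DD) := by
        rw [← Nat.not_even_iff_odd]
        rintro ⟨j, hj⟩
        refine h1 (FiniteField.isSquare_neg_one_iff.mpr ?_)
        have := zas_two_lt_card hZ
        omega
      obtain ⟨q, hq⟩ := hprod n₀ m₀ hn₀ hm₀s
      have hr0 : r ≠ 0 := mul_ne_zero hn₀0 hm₀0
      obtain ⟨x₁, hx₁, hx₁r⟩ : ∃ x₁ : K, ¬ IsSquare x₁ ∧ x₁ * x₁ = r := by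
        by_cases hqs : IsSquare q
        · refine ⟨-q, fun hnq => h1 ?_, by rw [neg_mul_neg, hr, hq]⟩
          have hq0 : q ≠ 0 := fun e => hr0 (by rw [hr, hq, e, mul_zero])
          obtain ⟨u, hu⟩ := hqs
          obtain ⟨v, hv⟩ := hnq
          have hu0 : u ≠ 0 := fun e => hq0 (by rw [hu, e, mul_zero])
          refine ⟨v / u, ?_⟩
          field_simp
          linear_combination hv + hu
        · exact ⟨q, hqs, by rw [hr, hq]⟩
      have hx10 : x₁ ≠ 0 := fun e => hx₁ (e ▸ IsSquare.zero)
      have hfix : t • C.pt x₁ = C.pt x₁ := by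
        rw [hnsq x₁ hx₁]; congr 1; field_simp; linear_combination -hx₁r
      have hne : C.pt 1 ≠ C.pt x₁ := fun e => hx₁ ((C.pt_inj e) ▸ IsSquare.one)
      have h2 : orderOf t = 2 := orderOf_eq_prime
        (by rw [pow_two, swap_sq hZ hab hd H hHa hHcard hHfix hHc hta htb])
        (fun e => hab (by rw [← hta, e, one_smul]))
      exact hne (zas_invol_fix hZ hab hodd h2 ht1 hfix)
  refine ⟨t, c, hc, ?_, hta, htb, hform⟩
  -- the multiplier of `t τ₋c (t τ₁ t)`
  have hta' : t • a = C.pt 0 := hta.trans C.pt_zero.symm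
  have htb' : t • C.pt 0 = a := by rw [C.pt_zero, htb]
  set k' := t * C.τ (-c) * (t * C.τ 1 * t) with hk'
  have hk'a : k' • a = a := by
    rw [hk', mul_smul, mul_smul t (C.τ (-c)), mul_smul (t * C.τ 1), mul_smul t (C.τ 1), hta',
      C.τ_pt, add_zero, hform 1 one_ne_zero, C.τ_pt, div_one, neg_add_cancel, htb']
  obtain ⟨s, w, hs0, ⟨o, ho⟩, hk'⟩ := C.affine k' hk'a
  have e0 := hk' 0
  rw [mul_zero, zero_add, show k' = t * C.τ (-c) * (t * C.τ 1 * t) from rfl, mul_smul,
    mul_smul t (C.τ (-c)), mul_smul (t * C.τ 1), mul_smul t (C.τ 1), htb', C.τ_inf, hta',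
    C.τ_pt, add_zero, hform (-c) (neg_ne_zero.mpr hc), div_neg_self hc] at e0
  have hw : w = -1 := (C.pt_inj e0).symm
  have e1 := hk' (-c)
  have hcc : (1 : K) + c / -c = 0 := by rw [div_neg_self hc, add_neg_cancel]
  rw [show k' = t * C.τ (-c) * (t * C.τ 1 * t) from rfl, mul_smul, mul_smul t (C.τ (-c)),
    mul_smul (t * C.τ 1), mul_smul t (C.τ 1), hform (-c) (neg_ne_zero.mpr hc), C.τ_pt, hcc,
    htb', C.τ_inf, hta'] at e1
  have hsc : s * c = -1 := by
    have := C.pt_inj e1
    rw [hw] at this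
    linear_combination this
  have ho0 : o ≠ 0 := fun e => hs0 (by rw [ho, e, mul_zero])
  exact ⟨1 / o, by field_simp; linear_combination -hsc + c * ho⟩

/-- The group is `PSL(2, q)`. -/
theorem iso_psl (K : Type) [Field K] [Fintype K] (hK2 : ringChar K ≠ 2)
    (hK : Fintype.card K + 1 = Fintype.card Ω) :
    Nonempty (G ≃* ProjectiveSpecialLinearGroup (Fin 2) K) := by
  classical
  haveI := hZ.1
  obtain ⟨C⟩ := exists_coord hZ hab hd H hHa hHcard hHfix hHc K (by omega)
  obtain ⟨t, c, hc, ⟨o, ho⟩, hta, htb, hform⟩ :=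
    exists_swap_formula hZ hab hd H hHa hHcard hHfix hHc K hK2 hK C
  let e : OnePoint K → Ω := fun z => Option.elim z a C.pt
  have he : Function.Bijective e := by
    refine ⟨?_, fun z => ?_⟩
    · rintro (_ | x) (_ | y) h'
      · rfl
      · exact absurd h'.symm (C.pt_ne y)
      · exact absurd h' (C.pt_ne x)
      · exact congrArg Option.some (C.pt_inj h')
    · by_cases hz : z = a
      · exact ⟨∞, hz.symm⟩
      · obtain ⟨x, hx⟩ := C.pt_surj z hz
        exact ⟨(x : OnePoint K), hx⟩
  let E : Equiv.Perm Ω ≃* Equiv.Perm (OnePoint K) := (Equiv.ofBijective e he).symm.permCongrHom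
  let φ : G →* Equiv.Perm (OnePoint K) := E.toMonoidHom.comp (MulAction.toPermHom G Ω)
  have hφinj : Function.Injective φ := E.injective.comp (MulAction.toPerm_injective)
  have hφ : ∀ (g : G) (z : OnePoint K), e (φ g z) = g • e z := fun g z =>
    (Equiv.ofBijective e he).apply_symm_apply _
  have hmu : ∀ (g : G) (A : SL(2, K)), (∀ z, e (Small.PSLTwoRecog.mu K A z) = g • e z) →
      φ g ∈ (Small.PSLTwoRecog.mu K).range := fun g A hA =>
    ⟨A, Equiv.ext fun z => he.1 ((hA z).trans (hφ g z).symm)⟩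
  have haff : ∀ g : G, g • a = a → φ g ∈ (Small.PSLTwoRecog.mu K).range := by
    intro g hg
    obtain ⟨s, w, hs0, ⟨q, hq⟩, hgx⟩ := C.affine g hg
    have hq0 : q ≠ 0 := fun h' => hs0 (by rw [hq, h', mul_zero])
    refine hmu g ⟨!![q, w / q; 0, 1 / q], by simp [det_fin_two, hq0]⟩ fun z => ?_
    cases z with
    | infty => erw [Small.PSLTwoRecog.mu_infty]; simp; exact hg.symm
    | coe x =>
      erw [Small.PSLTwoRecog.mu_some]
      rw [if_neg (by simp [hq0])]
      show C.pt _ = g • C.pt x
      rw [hgx x]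
      congr 1
      simp only [Matrix.cons_val', Matrix.cons_val_zero, Matrix.cons_val_one, Matrix.of_apply,
        Matrix.cons_val_fin_one, zero_mul, zero_add]
      rw [hq]; field_simp
  have hto : φ t ∈ (Small.PSLTwoRecog.mu K).range := by
    have ho0 : o ≠ 0 := fun h' => hc (by rw [h', mul_zero, neg_eq_zero] at ho; exact ho)
    refine hmu t ⟨!![0, c / o; 1 / o, 0], by simp [det_fin_two]; field_simp; linear_combination ho⟩
      fun z => ?_
    cases z with
    | infty =>
      erw [Small.PSLTwoRecog.mu_infty]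
      rw [if_neg (by simp [ho0])]
      show C.pt _ = t • a
      rw [hta]
      simp [C.pt_zero]
    | coe x =>
      erw [Small.PSLTwoRecog.mu_some]
      rcases eq_or_ne x 0 with rfl | hx
      · rw [if_pos (by simp)]
        show a = t • C.pt 0
        rw [C.pt_zero, htb]
      · rw [if_neg (by simp [ho0, hx])]
        show C.pt _ = t • C.pt x
        rw [hform x hx]
        congr 1
        simp only [Matrix.cons_val', Matrix.cons_val_zero, Matrix.cons_val_one, Matrix.of_apply,
          Matrix.cons_val_fin_one, zero_mul, zero_add, add_zero]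
        field_simp
  have hle : φ.range ≤ (Small.PSLTwoRecog.mu K).range := by
    rintro _ ⟨g, rfl⟩
    by_cases hg : g • a = a
    · exact haff g hg
    obtain ⟨y, hy⟩ := C.pt_surj _ hg
    have h1 := haff (t * C.τ (-y) * g) (by
      rw [mul_smul, mul_smul, ← hy, C.τ_pt, neg_add_cancel, C.pt_zero, htb])
    have h2 := haff (C.τ (-y)) (C.τ_inf _)
    rw [map_mul, map_mul] at h1
    exact (Subgroup.mul_mem_cancel_left _ (Subgroup.mul_mem _ hto h2)).mp h1
  let e1 : ProjectiveSpecialLinearGroup (Fin 2) K ≃* (Small.PSLTwoRecog.mu K).range :=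
    (QuotientGroup.quotientMulEquivOfEq Small.PSLTwoRecog.ker_mu.symm).trans
      (QuotientGroup.quotientKerEquivRange _)
  have hcardP : Nat.card (ProjectiveSpecialLinearGroup (Fin 2) K) ≤ Nat.card G := by
    have h := Linear.Two.card_PSL_two (F := K)
    have h3 := zas_two_lt_card hZ
    obtain ⟨-, hG⟩ := zas_card_group hZ hab
    generalize Nat.card ↥DD = d at hd hG ⊢
    obtain ⟨m, hm⟩ : ∃ m, Fintype.card K = m := ⟨_, rfl⟩
    rw [hm] at hK h
    obtain rfl : m = 2 * d + 1 := by omega
    rw [show Nat.gcd 2 (2 * d + 1 - 1) = 2 from Nat.gcd_eq_left ⟨d, by omega⟩] at h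
    rw [← hK, Nat.add_sub_cancel] at hG
    have h4 : (2 * d + 1) ^ 2 - 1 = 4 * d * d + 4 * d := by
      rw [show (2 * d + 1) ^ 2 = 4 * d * d + 4 * d + 1 by ring, Nat.add_sub_cancel]
    rw [h4] at h
    nlinarith
  have hrange : φ.range = (Small.PSLTwoRecog.mu K).range := by
    refine Subgroup.eq_of_le_of_card_ge hle ?_
    rw [← Nat.card_congr e1.toEquiv, ← Nat.card_congr (MonoidHom.ofInjective hφinj).toEquiv]
    exact hcardP
  exact ⟨((MonoidHom.ofInjective hφinj).trans (MulEquiv.subgroupCongr hrange)).trans e1.symm⟩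

end Cfsg.Lib.Perm.ZasAbelian
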