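import Cfsg.Agent.Lib.Perm.ZasAbelian.SharpThree
import Cfsg.Agent.Lib.Perm.SharpTwo
import Cfsg.Prelude.Def_Perm

/-!
# Transitive groups of degree `p + 1` and order `(p + 1) p d`, `d < p`
-/

set_option autoImplicit false
set_option linter.style.haveILetI false

namespace Cfsg.Lib.Perm.ZasAbelian

open Cfsg Cfsg.Lib.Char

/-- An abelian group acting regularly on the nonzero elements: a field. -/
theorem exists_field_regular {V : Type*} [AddCommGroup V] [Finite V] {D : Type*} [CommGroup D] [Finite D]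
    (ρ : D →* AddMonoid.End V) (hfpf : ∀ x : D, x ≠ 1 → ∀ v : V, ρ x v = v → v = 0)
    (hcard : Nat.card V = Nat.card D + 1) (K : Type) [Field K] [Fintype K] (hK : Fintype.card K = Nat.card V) :
    ∃ (ι : K ≃+ V) (χ : D →* K), (∀ x a, ρ x (ι a) = ι (χ x * a)) ∧ ∀ s : K, s ≠ 0 → ∃ x, χ x = s := by
  classical
  haveI := Fintype.ofFinite V
  haveI := Fintype.ofFinite D
  have hzero : ∀ (x : D) (v : V), ρ x v = 0 → v = 0 := by
    intro x v h'
    calc v = (ρ x⁻¹ * ρ x) v := by rw [← map_mul, inv_mul_cancel, map_one]; rfl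
      _ = ρ x⁻¹ (ρ x v) := rfl
      _ = 0 := by rw [h', map_zero]
  have horb : ∀ v : V, v ≠ 0 → Function.Injective fun x : D => ρ x v := by
    intro v hv x y hxy
    by_contra hne
    refine hv (hfpf (y⁻¹ * x) (fun e => hne (inv_mul_eq_one.mp e).symm) v ?_)
    rw [map_mul, show (ρ y⁻¹ * ρ x) v = ρ y⁻¹ (ρ x v) from rfl, show ρ x v = ρ y v from hxy,
      ← show (ρ y⁻¹ * ρ y) v = ρ y⁻¹ (ρ y v) from rfl, ← map_mul, inv_mul_cancel, map_one]
    rfl
  have hreach : ∀ v : V, v ≠ 0 → ∀ w : V, w ≠ 0 → ∃ x, ρ x v = w := by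
    intro v hv w hw
    have hbij : Function.Bijective (fun x : D => (⟨ρ x v, fun e => hv (hzero x v e)⟩ : {w : V // w ≠ 0})) := by
      refine (Fintype.bijective_iff_injective_and_card _).mpr ⟨fun x y h' => horb v hv (congrArg Subtype.val h'), ?_⟩
      rw [Fintype.card_subtype_compl, Fintype.card_subtype_eq, ← Nat.card_eq_fintype_card (α := D),
        ← Nat.card_eq_fintype_card (α := V)]
      omega
    obtain ⟨x, hx⟩ := hbij.2 ⟨w, hw⟩
    exact ⟨x, congrArg Subtype.val hx⟩
  let R : Subring (AddMonoid.End V) := Subring.centralizer (Set.range ρ)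
  have hRmem : ∀ {φ : AddMonoid.End V}, φ ∈ R → ∀ x v, ρ x (φ v) = φ (ρ x v) := fun hφ x v =>
    DFunLike.congr_fun (Subring.mem_centralizer_iff.mp hφ _ ⟨x, rfl⟩) v
  have hinjφ : ∀ φ : R, φ ≠ 0 → Function.Injective (φ : AddMonoid.End V) := by
    intro φ hφ
    refine (injective_iff_map_eq_zero _).mpr fun v hv => ?_
    by_contra hv0
    refine hφ (Subtype.ext (AddMonoidHom.ext fun w => ?_))
    by_cases hw : w = 0
    · rw [hw]
      show (φ : AddMonoid.End V) 0 = 0
      exact map_zero _
    obtain ⟨x, rfl⟩ := hreach v hv0 w hw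
    show (φ : AddMonoid.End V) (ρ x v) = 0
    rw [← hRmem φ.2, hv, map_zero]
  haveI : Nontrivial V := Finite.one_lt_card_iff_nontrivial.mp (by
    have : 0 < Nat.card D := Nat.card_pos
    omega)
  obtain ⟨v₀, hv₀⟩ := exists_ne (0 : V)
  haveI : Nontrivial R := ⟨⟨1, 0, fun e => hv₀ (DFunLike.congr_fun (congrArg Subtype.val e) v₀)⟩⟩
  haveI : NoZeroDivisors R := ⟨fun {φ ψ} h' => by
    by_contra hh
    push Not at hh
    refine hh.2 (Subtype.ext (AddMonoidHom.ext fun v => hinjφ φ hh.1 ?_))
    show (φ : AddMonoid.End V) ((ψ : AddMonoid.End V) v) = (φ : AddMonoid.End V) 0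
    rw [map_zero]
    exact DFunLike.congr_fun (congrArg Subtype.val h') v⟩
  haveI : IsDomain R := NoZeroDivisors.to_isDomain R
  haveI : Finite (AddMonoid.End V) := Finite.of_injective _ DFunLike.coe_injective
  letI : Field R := (Finite.isDomain_to_isField R).toField
  haveI : Fintype R := Fintype.ofFinite R
  let r : D →* R :=
    { toFun := fun x => ⟨ρ x, Subring.mem_centralizer_iff.mpr fun _ ⟨y, hy⟩ => by
        rw [← hy, ← map_mul, ← map_mul, mul_comm]⟩
      map_one' := Subtype.ext ρ.map_one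
      map_mul' := fun x y => Subtype.ext (ρ.map_mul x y) }
  let ev : R →+ V :=
    { toFun := fun φ => (φ : AddMonoid.End V) v₀
      map_zero' := rfl
      map_add' := fun _ _ => rfl }
  have hev : Function.Injective ev := by
    intro φ ψ h'
    by_contra hne
    refine hv₀ (hinjφ (φ - ψ) (sub_ne_zero.mpr hne) ?_)
    rw [map_zero]
    show (φ : AddMonoid.End V) v₀ - (ψ : AddMonoid.End V) v₀ = 0
    exact sub_eq_zero.mpr h'
  have hsurj : Function.Surjective ev := by
    intro w
    by_cases hw : w = 0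
    · exact ⟨0, by rw [hw, map_zero]⟩
    obtain ⟨x, hx⟩ := hreach v₀ hv₀ w hw
    exact ⟨r x, hx⟩
  let E : R ≃+ V := AddEquiv.ofBijective ev ⟨hev, hsurj⟩
  let τ : K ≃+* R := FiniteField.ringEquivOfCardEq (K := K) (K' := R) (by
    rw [hK, ← Nat.card_eq_fintype_card]; exact (Nat.card_congr E.toEquiv).symm)
  refine ⟨τ.toAddEquiv.trans E, (τ.symm : R →* K).comp r, fun x a => ?_, fun s hs => ?_⟩
  · show ρ x ((τ a : R).1 v₀) = (τ (τ.symm (r x) * a) : R).1 v₀
    rw [map_mul, τ.apply_symm_apply]
    rfl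
  · have hne : ev (τ s) ≠ 0 := fun e => hs (τ.injective (by rw [map_zero]; exact hev (e.trans ev.map_zero.symm)))
    obtain ⟨x, hx⟩ := hreach v₀ hv₀ _ hne
    refine ⟨x, ?_⟩
    show τ.symm (r x) = s
    rw [show r x = τ s from hev hx, τ.symm_apply_apply]

/-- The kernel of a point stabilizer of order `p d`, `d < p`. -/
theorem exists_cycle {α : Type*} [Fintype α] [DecidableEq α] {p d : ℕ} (hp : p.Prime)
    (hα : Fintype.card α = p + 1) (G : Subgroup (Equiv.Perm α)) [MulAction.IsPretransitive G α]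
    (hG : Nat.card G = (p + 1) * p * d) (hd : d < p) (a : α) :
    Nat.card (MulAction.stabilizer G a) = p * d ∧ ∃ P : Subgroup G, P ≤ MulAction.stabilizer G a ∧
      Nat.card P = p ∧ (P.subgroupOf (MulAction.stabilizer G a)).Normal ∧
      ∀ u ∈ P, u ≠ 1 → ∀ c : α, u • c = c → c = a := by
  classical
  haveI := Fact.mk hp
  have hA : Nat.card (MulAction.stabilizer G a) = p * d := by
    have h1 := (MulAction.stabilizer G a).card_mul_index
    rw [MulAction.index_stabilizer_of_transitive, Nat.card_eq_fintype_card (α := α), hα, hG] at h1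
    exact Nat.eq_of_mul_eq_mul_right (show 0 < p + 1 by omega) (h1.trans (by ring))
  have hd0 : 0 < d := by
    rcases Nat.eq_zero_or_pos d with h | h
    · rw [h, mul_zero] at hG; exact absurd hG Nat.card_pos.ne'
    · exact h
  obtain ⟨S⟩ : Nonempty (Sylow p (MulAction.stabilizer G a)) := inferInstance
  have hScard : Nat.card S = p := by
    rw [S.card_eq_multiplicity, hA, Nat.factorization_mul hp.ne_zero hd0.ne', Finsupp.add_apply,
      hp.factorization_self, Nat.factorization_eq_zero_of_lt hd, pow_one]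
  have hn : Nat.card (Sylow p (MulAction.stabilizer G a)) = 1 := by
    have h1 := S.card_dvd_index
    have h2 : (S : Subgroup (MulAction.stabilizer G a)).index = d := by
      have := (S : Subgroup (MulAction.stabilizer G a)).card_mul_index
      rw [hA, hScard] at this
      exact Nat.eq_of_mul_eq_mul_left hp.pos this
    rw [h2] at h1
    have h3 := card_sylow_modEq_one p (MulAction.stabilizer G a)
    have h4 := Nat.le_of_dvd hd0 h1
    rwa [Nat.ModEq, Nat.mod_eq_of_lt (by omega), Nat.mod_eq_of_lt hp.one_lt] at h3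
  haveI : Subsingleton (Sylow p (MulAction.stabilizer G a)) := (Nat.card_eq_one_iff_unique.mp hn).1
  haveI hSn : (S : Subgroup (MulAction.stabilizer G a)).Normal := S.normal_of_subsingleton
  refine ⟨hA, (S : Subgroup (MulAction.stabilizer G a)).map (MulAction.stabilizer G a).subtype,
    Subgroup.map_subtype_le _, by rw [Subgroup.card_subtype]; exact hScard, ?_, ?_⟩
  · rw [Subgroup.subgroupOf, Subgroup.comap_map_eq_self_of_injective Subtype.val_injective]
    exact hSn
  rintro _ ⟨u, hu, rfl⟩ hu1 c hc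
  set P := (S : Subgroup (MulAction.stabilizer G a)).map (MulAction.stabilizer G a).subtype with hP
  have hPp : IsPGroup p P := IsPGroup.of_card (n := 1) (by rw [pow_one, hP, Subgroup.card_subtype]; exact hScard)
  have hmod := hPp.card_modEq_card_fixedPoints (α := α)
  have hle : ∀ w ∈ P, w • c = c := by
    intro w hw
    haveI := Fact.mk hp
    have hz : Subgroup.zpowers ((MulAction.stabilizer G a).subtype u) = P := by
      refine Subgroup.eq_of_le_of_card_ge (Subgroup.zpowers_le.mpr ⟨u, hu, rfl⟩) ?_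
      rw [Nat.card_zpowers, hP, Subgroup.card_subtype, hScard]
      have h1 : orderOf ((MulAction.stabilizer G a).subtype u) ∣ p := by
        rw [← hScard, ← Subgroup.card_subtype, ← hP, ← Subgroup.orderOf_mk _ (show _ ∈ P from ⟨u, hu, rfl⟩)]
        exact orderOf_dvd_natCard _
      rcases (Nat.dvd_prime hp).mp h1 with h | h
      · exact absurd (orderOf_eq_one_iff.mp h) hu1
      · exact h.ge
    rw [← hz] at hw
    obtain ⟨k, rfl⟩ := hw
    exact Subgroup.zpow_mem (MulAction.stabilizer G c) hc k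
  by_contra hca
  -- two fixed points force all points fixed
  have hsub : ({a, c} : Set α) ⊆ MulAction.fixedPoints P α := by
    rintro y (rfl | rfl) w
    · exact (Subgroup.map_subtype_le _ w.2 : (w : G) ∈ MulAction.stabilizer G y)
    · exact hle w w.2
  have h2 : 2 ≤ Nat.card (MulAction.fixedPoints P α) := by
    rw [← Set.ncard_pair (Ne.symm hca), Nat.card_coe_set_eq]
    exact Set.ncard_le_ncard hsub
  have h4 : Nat.card (MulAction.fixedPoints P α) ≤ p + 1 := by
    rw [← hα, ← Nat.card_eq_fintype_card]; exact Nat.card_le_card_of_injective _ Subtype.val_injective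
  rw [Nat.card_eq_fintype_card, hα, Nat.ModEq, Nat.add_mod_left, Nat.mod_eq_of_lt hp.one_lt] at hmod
  have h5 : Nat.card (MulAction.fixedPoints P α) = p + 1 := by
    rcases Nat.lt_or_ge (Nat.card (MulAction.fixedPoints P α)) p with h | h
    · rw [Nat.mod_eq_of_lt h] at hmod; omega
    · rcases (show Nat.card (MulAction.fixedPoints P α) = p ∨ Nat.card (MulAction.fixedPoints P α) = p + 1 by omega) with h' | h'
      · rw [h', Nat.mod_self] at hmod; omega
      · exact h'
  have huniv : MulAction.fixedPoints P α = Set.univ := by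
    refine Set.eq_univ_of_univ_subset (le_of_eq (Set.eq_of_subset_of_ncard_le (Set.subset_univ _) ?_).symm)
    rw [Set.ncard_univ, Nat.card_eq_fintype_card, hα, ← Nat.card_coe_set_eq, h5]
  refine hu1 (Subtype.ext (Equiv.ext fun y => ?_))
  have := (huniv ▸ Set.mem_univ y : y ∈ MulAction.fixedPoints P α) ⟨_, ⟨u, hu, rfl⟩⟩
  exact this

set_option maxHeartbeats 1000000 in
/-- With a regular normal subgroup the group is semi-affine over `GF(2^q)`. -/
theorem semiaffine_of_regular {α : Type*} [Fintype α] [DecidableEq α] {p d : ℕ} (hp : p.Prime) (hp2 : p ≠ 2)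
    (hα : Fintype.card α = p + 1) (G : Subgroup (Equiv.Perm α)) (a : α)
    (hA : Nat.card (MulAction.stabilizer G a) = p * d) (P : Subgroup G) (hPa : P ≤ MulAction.stabilizer G a)
    (hPcard : Nat.card P = p) (hPn : (P.subgroupOf (MulAction.stabilizer G a)).Normal)
    (hPfix : ∀ u ∈ P, u ≠ 1 → ∀ c : α, u • c = c → c = a)
    (h2 : MulAction.IsMultiplyPretransitive G α 2)
    (R : Subgroup G) [hRn : R.Normal] (hRt : MulAction.IsPretransitive R α)
    (hRs : ∀ c : α, ∀ r ∈ R, r • c = c → r = 1) :
    ∃ q : ℕ, q.Prime ∧ p + 1 = 2 ^ q ∧ (d = 1 ∨ d = q) ∧ ∃ e : α ≃ GaloisField 2 q,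
      ∀ g : G, (e.symm.trans (((g : Equiv.Perm α)).trans e)) ∈ Cfsg.semiaffineGroup (GaloisField 2 q) := by
  classical
  haveI := Fact.mk hp
  have hRc : Nat.card R = p + 1 := by
    rw [← hα, ← Nat.card_eq_fintype_card]
    exact Nat.card_congr (Equiv.ofBijective (fun r : R => (r : G) • a)
      ⟨fun r s h => Subtype.ext (inv_mul_eq_one.mp (hRs a _ (R.mul_mem (R.inv_mem s.2) r.2)
        (by rw [mul_smul, show (r : G) • a = (s : G) • a from h, inv_smul_smul]))).symm,
      fun y => hRt.exists_smul_eq a y⟩)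
  have hRne : R ≠ ⊥ := fun e => by rw [e, Subgroup.card_bot] at hRc; have := hp.two_le; omega
  obtain ⟨ℓ, hℓ, hℓd, hP', hpow⟩ := regular_isPGroup h2 a R hRs hRne
  haveI := Fact.mk hℓ
  obtain ⟨q, hq⟩ := IsPGroup.iff_card.mp hP'
  obtain rfl : ℓ = 2 := by
    have h2' : 2 ∣ ℓ ^ q := by rw [← hq, hRc]; exact (hp.odd_of_ne_two hp2).add_one.two_dvd
    exact ((Nat.prime_dvd_prime_iff_eq Nat.prime_two hℓ).mp (Nat.prime_two.dvd_of_dvd_pow h2')).symm
  haveI : Fact (Nat.Prime 2) := ⟨Nat.prime_two⟩
  rw [hRc] at hq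
  have hq0 : q ≠ 0 := by rintro rfl; have := hp.two_le; omega
  have hqp : q.Prime := by
    refine (Nat.prime_of_pow_sub_one_prime (a := 2) ?_ ?_).2
    · rintro rfl; have := hp.two_le; omega
    · rw [← hq, Nat.add_sub_cancel]; exact hp
  -- coordinates
  have hRcomm : ∀ r ∈ R, ∀ s ∈ R, r * s = s * r := by
    intro r hr s hs
    have h1 := hpow _ (R.mul_mem hr hs)
    have e1 : r⁻¹ = r := inv_eq_of_mul_eq_one_right (by rw [← pow_two]; exact hpow r hr)
    have e2 : s⁻¹ = s := inv_eq_of_mul_eq_one_right (by rw [← pow_two]; exact hpow s hs)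
    have e3 : (r * s)⁻¹ = r * s := inv_eq_of_mul_eq_one_right (by rw [← pow_two]; exact h1)
    rw [← e3, mul_inv_rev, e1, e2]
  letI : CommGroup R := { (inferInstance : Group R) with
    mul_comm := fun x y => Subtype.ext (hRcomm _ x.2 _ y.2) }
  haveI : IsCyclic P := isCyclic_of_prime_card hPcard
  letI : CommGroup P := IsCyclic.commGroup
  let ρ : P →* AddMonoid.End (Additive R) :=
    { toFun := fun x => MonoidHom.toAdditive
        { toFun := fun u => ⟨(x : G) * u * (x : G)⁻¹, hRn.conj_mem u u.2 x⟩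
          map_one' := Subtype.ext (by simp)
          map_mul' := fun u v => Subtype.ext (by simp [mul_assoc]) }
      map_one' := AddMonoidHom.ext fun u => congrArg Additive.ofMul (Subtype.ext (by
        show (1 : G) * _ * (1 : G)⁻¹ = _
        simp <;> rfl))
      map_mul' := fun x y => AddMonoidHom.ext fun u => congrArg Additive.ofMul (Subtype.ext (by
        show (x : G) * y * _ * ((x : G) * y)⁻¹ = (x : G) * ((y : G) * _ * (y : G)⁻¹) * (x : G)⁻¹
        group)) }
  have hact : ∀ (g : G), g • a = a → ∀ r : R, (g * r * g⁻¹) • a = g • ((r : G) • a) := fun g hg r => by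
    rw [mul_smul, mul_smul, show g⁻¹ • a = a by rw [inv_smul_eq_iff, hg]]
  have hfpf : ∀ x : P, x ≠ 1 → ∀ v : Additive R, ρ x v = v → v = 0 := by
    intro x hx v hv
    by_contra hv0
    have h1 : (x : G) * (Additive.toMul v : R) * (x : G)⁻¹ = (Additive.toMul v : R) :=
      congrArg Subtype.val (congrArg Additive.toMul hv)
    have hxa : (x : G) • a = a := hPa x.2
    have h2' := hPfix x x.2 (fun e => hx (Subtype.ext e)) (((Additive.toMul v : R) : G) • a) (by
      rw [← hact x hxa, h1])
    exact hv0 (congrArg Additive.ofMul (Subtype.ext (hRs a _ (Additive.toMul v : R).2 h2') :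
      (Additive.toMul v : R) = 1))
  haveI : Fintype (GaloisField 2 q) := Fintype.ofFinite _
  have hK : Fintype.card (GaloisField 2 q) = Nat.card (Additive R) := by
    rw [← Nat.card_eq_fintype_card, GaloisField.card 2 q hq0]; exact hq.symm.trans hRc.symm
  obtain ⟨ι, χ, hρ, hsurj⟩ := exists_field_regular ρ hfpf (show Nat.card R = Nat.card P + 1 by omega)
    (GaloisField 2 q) hK
  let τ : GaloisField 2 q → G := fun k => ((Additive.toMul (ι k) : R) : G)
  have hτR : ∀ k, τ k ∈ R := fun k => (Additive.toMul (ι k) : R).2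
  have hτadd : ∀ x y, τ (x + y) = τ x * τ y := fun x y => by simp [τ, map_add]
  have hτ0 : τ 0 = 1 := by simp [τ]
  have hτsurj : ∀ r ∈ R, ∃ k, τ k = r := fun r hr => ⟨ι.symm (Additive.ofMul ⟨r, hr⟩), by simp [τ]⟩
  have hbij : Function.Bijective fun k => τ k • a := by
    refine ⟨fun x y h' => ι.injective (Additive.toMul.injective (Subtype.ext ?_)), fun y => ?_⟩
    · exact (inv_mul_eq_one.mp (hRs a _ (R.mul_mem (R.inv_mem (hτR y)) (hτR x)) (by
        rw [mul_smul, show τ x • a = τ y • a from h', inv_smul_smul]))).symm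
    · obtain ⟨⟨r, hr⟩, hra⟩ := hRt.exists_smul_eq a y
      obtain ⟨k, hk⟩ := hτsurj r hr
      exact ⟨k, show τ k • a = y by rw [hk]; exact hra⟩
  have hχ : ∀ (x : P) k, (x : G) • τ k • a = τ (χ x * k) • a := by
    intro x k
    have h1 : (x : G) * τ k * (x : G)⁻¹ = τ (χ x * k) :=
      congrArg (fun v : Additive R => ((Additive.toMul v : R) : G)) (hρ x k)
    rw [← h1, hact x (hPa x.2) (Additive.toMul (ι k))]
  -- a stabilizer element is semilinear
  have hlin : ∀ g : G, g • a = a → ∃ (φ : GaloisField 2 q ≃+* GaloisField 2 q) (c : (GaloisField 2 q)ˣ),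
      ∀ k, g • τ k • a = τ ((c : GaloisField 2 q) * φ k) • a := by
    intro g hga
    have i1 : g⁻¹ • a = a := by rw [inv_smul_eq_iff, hga]
    choose L hL using fun k => hbij.2 (g • τ k • a)
    have hLτ : ∀ k, τ (L k) = g * τ k * g⁻¹ := fun k => by
      refine (inv_mul_eq_one.mp (hRs a _ (R.mul_mem (R.inv_mem (hτR _)) (hRn.conj_mem _ (hτR k) g)) ?_))
      rw [mul_smul, inv_smul_eq_iff, show τ (L k) • a = _ from hL k, mul_smul, mul_smul, i1]
    have hLadd : ∀ x y, L (x + y) = L x + L y := fun x y => hbij.1 (by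
      show τ (L (x + y)) • a = τ (L x + L y) • a
      rw [hτadd, hLτ, hLτ, hLτ, hτadd]
      group)
    have hL0 : L 0 = 0 := by
      have := hLadd 0 0
      rw [add_zero] at this
      exact left_eq_add.mp this
    have hLmul : ∀ s x, L (s * x) * L 1 = L s * L x := by
      intro s x
      by_cases hs : s = 0
      · simp [hs, hL0]
      obtain ⟨u, rfl⟩ := hsurj s hs
      have hu' : g * (u : G) * g⁻¹ ∈ P := hPn.conj_mem ⟨u, hPa u.2⟩ u.2 ⟨g, hga⟩
      have hσ : ∀ x, L (χ u * x) = χ ⟨_, hu'⟩ * L x := fun x => hbij.1 (by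
        show τ (L (χ u * x)) • a = τ (χ ⟨_, hu'⟩ * L x) • a
        rw [← hχ, show τ (L (χ u * x)) • a = _ from hL _, show τ (L x) • a = _ from hL x, ← hχ, mul_smul,
          mul_smul, inv_smul_smul])
      have h1 := hσ 1
      rw [mul_one] at h1
      rw [hσ x, h1]; ring
    have hL1 : L 1 ≠ 0 := fun e' => by
      have h1 : τ (L 1) • a = g • τ 1 • a := hL 1
      rw [e', hτ0, one_smul] at h1
      have h2' : τ 1 • a = τ 0 • a := by
        rw [hτ0, one_smul]; exact MulAction.injective g (h1.symm.trans hga.symm)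
      exact one_ne_zero (hbij.1 h2')
    let φ : GaloisField 2 q →+* GaloisField 2 q :=
      { toFun := fun x => L x / L 1
        map_one' := div_self hL1
        map_mul' := fun x y => by
          rw [div_mul_div_comm, ← hLmul, mul_div_mul_right _ _ hL1]
        map_zero' := by rw [hL0, zero_div]
        map_add' := fun x y => by rw [hLadd, add_div] }
    refine ⟨RingEquiv.ofBijective φ (Finite.injective_iff_bijective.mp φ.injective), Units.mk0 _ hL1,
      fun k => ?_⟩
    rw [← show τ (L k) • a = _ from hL k]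
    congr 2
    show L k = L 1 * (L k / L 1)
    field_simp
  let e : GaloisField 2 q ≃ α := Equiv.ofBijective _ hbij
  refine ⟨q, hqp, hq, ?_, e.symm, fun g => ?_⟩
  · -- the order of the two-point stabilizer
    set b := τ 1 • a with hb
    have hab : a ≠ b := fun e' => one_ne_zero (hbij.1 (show τ 1 • a = τ 0 • a by rw [hτ0, one_smul]; exact e'.symm))
    set A := MulAction.stabilizer G a
    let D := MulAction.stabilizer A b
    have hD : Nat.card D = d := by
      have h1 := (MulAction.stabilizer A b).card_mul_index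
      rw [MulAction.index_stabilizer, hA, show MulAction.orbit A b = ({a} : Set α)ᶜ from ?_, Set.ncard_compl,
        Set.ncard_singleton, Nat.card_eq_fintype_card (α := α), hα, Nat.add_sub_cancel, mul_comm] at h1
      · exact Nat.eq_of_mul_eq_mul_left hp.pos h1
      ext y
      constructor
      · rintro ⟨g, rfl⟩ (h : (g : G) • b = a)
        have hga : (g : G) • a = a := g.2
        exact hab (MulAction.injective (g : G) (hga.trans h.symm))
      · intro hy
        obtain ⟨g, h1, h2'⟩ := MulAction.is_two_pretransitive_iff.1 h2 hab (Ne.symm hy)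
        exact ⟨⟨g, h1⟩, h2'⟩
    haveI : Fintype D := Fintype.ofFinite D
    choose φ c hφ using fun g : D => hlin (g.1 : G) g.1.2
    have hc : ∀ g : D, (c g : GaloisField 2 q) = 1 := fun g => by
      have h1 := hφ g 1
      rw [map_one, mul_one] at h1
      exact (hbij.1 ((show ((g.1 : A) : G) • τ 1 • a = τ 1 • a from g.2).symm.trans h1)).symm
    have hinj : Function.Injective φ := by
      intro g g' hgg
      apply Subtype.ext; apply Subtype.ext; apply Subtype.ext
      refine Equiv.ext fun y => ?_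
      obtain ⟨k, rfl⟩ := hbij.2 y
      have h1 := hφ g k
      have h1' := hφ g' k
      rw [hc, one_mul] at h1 h1'
      rw [hgg] at h1
      exact h1.trans h1'.symm
    have hmul : ∀ g g' : D, φ (g * g') = (φ g').trans (φ g) := fun g g' => RingEquiv.ext fun k => hbij.1 (by
      have h1 := hφ (g * g') k
      have h2' := hφ g' k
      have h3 := hφ g (φ g' k)
      rw [hc, one_mul] at h1 h2' h3
      show τ (φ (g * g') k) • a = τ (φ g (φ g' k)) • a
      rw [← h1, ← h3, ← h2', ← mul_smul]
      rfl)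
    let Φ : D →* (GaloisField 2 q ≃ₐ[ZMod 2] GaloisField 2 q) :=
      MonoidHom.mk' (fun g => AlgEquiv.ofRingEquiv (f := φ g) (fun z => by
        exact DFunLike.congr_fun (RingHom.ext_zmod (((φ g).toRingHom).comp (algebraMap (ZMod 2) _))
          (algebraMap (ZMod 2) _)) z)) fun g g' => by
        apply AlgEquiv.ext; intro k
        show φ (g * g') k = φ g (φ g' k)
        rw [hmul]; rfl
    have hΦ : Function.Injective Φ := fun g g' h' =>
      hinj (RingEquiv.ext fun k => DFunLike.congr_fun h' k)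
    have hdvd := Subgroup.card_dvd_of_injective Φ hΦ
    rw [hD, IsGalois.card_aut_eq_finrank, GaloisField.finrank 2 hq0] at hdvd
    exact (Nat.dvd_prime hqp).mp hdvd
  · obtain ⟨⟨r, hr⟩, hra⟩ := hRt.exists_smul_eq a (g • a)
    have hra : r • a = g • a := hra
    obtain ⟨φ, c, hφ⟩ := hlin (r⁻¹ * g) (by rw [mul_smul, ← hra, inv_smul_smul])
    obtain ⟨k₀, hk₀⟩ := hτsurj r hr
    refine ⟨c, k₀, φ, fun k => ?_⟩
    show e.symm ((g : Equiv.Perm α) (e k)) = _
    rw [Equiv.symm_apply_eq]
    show g • τ k • a = τ _ • a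
    have h1 := hφ k
    rw [mul_smul, inv_smul_eq_iff] at h1
    rw [h1, ← hk₀, ← mul_smul, ← hτadd, add_comm]

end Cfsg.Lib.Perm.ZasAbelian
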