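import Mathlib

/-!
# Regular normal subgroups of normal 2-transitive subgroups
-/

set_option autoImplicit false
set_option linter.style.haveILetI false

namespace Cfsg.Lib.Perm.ZasAbelian

variable {G Ω : Type*} [Group G] [MulAction G Ω] [Finite Ω]

/-- In a 2-transitive group the nontrivial elements of a regular normal subgroup are conjugate. -/
theorem regular_conj (h2 : MulAction.IsMultiplyPretransitive G Ω 2) (a : Ω) (R : Subgroup G) [hRn : R.Normal]
    (hRs : ∀ c : Ω, ∀ r ∈ R, r • c = c → r = 1) :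
    ∀ r ∈ R, r ≠ 1 → ∀ s ∈ R, s ≠ 1 → ∃ k : G, k • a = a ∧ k * r * k⁻¹ = s := by
  intro r hr hr1 s hs hs1
  obtain ⟨k, hka, hkr⟩ := MulAction.is_two_pretransitive_iff.1 h2
    (show a ≠ r • a from fun e => hr1 (hRs a r hr e.symm))
    (show a ≠ s • a from fun e => hs1 (hRs a s hs e.symm))
  refine ⟨k, hka, inv_mul_eq_one.mp (hRs a _ (R.mul_mem (R.inv_mem (hRn.conj_mem r hr k)) hs) ?_)⟩
  rw [mul_smul, inv_smul_eq_iff, mul_smul, mul_smul, show k⁻¹ • a = a by rw [inv_smul_eq_iff, hka], hkr]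

/-- A regular normal subgroup of a 2-transitive group is elementary abelian. -/
theorem regular_isPGroup [Finite G] (h2 : MulAction.IsMultiplyPretransitive G Ω 2) (a : Ω) (R : Subgroup G)
    [R.Normal] (hRs : ∀ c : Ω, ∀ r ∈ R, r • c = c → r = 1) (hR : R ≠ ⊥) :
    ∃ p : ℕ, p.Prime ∧ p ∣ Nat.card R ∧ IsPGroup p R ∧ ∀ r ∈ R, r ^ p = 1 := by
  obtain ⟨p, hp, hpdvd⟩ := Nat.exists_prime_and_dvd
    (show Nat.card R ≠ 1 from fun e => hR (Subgroup.eq_bot_of_card_eq R e))
  haveI := Fact.mk hp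
  obtain ⟨r, hr⟩ := exists_prime_orderOf_dvd_card' p hpdvd
  rw [← Subgroup.orderOf_coe] at hr
  have hr1 : (r : G) ≠ 1 := fun e => by rw [e, orderOf_one] at hr; exact hp.one_lt.ne hr
  have hpow : ∀ s ∈ R, s ^ p = 1 := by
    intro s hs
    by_cases hs1 : s = 1
    · rw [hs1, one_pow]
    obtain ⟨k, -, hk⟩ := regular_conj h2 a R hRs r r.2 hr1 s hs hs1
    rw [← hk, conj_pow, ← hr, pow_orderOf_eq_one, mul_one, mul_inv_cancel]
  exact ⟨p, hp, hpdvd, fun s => ⟨1, Subtype.ext (by rw [pow_one]; exact hpow s s.2)⟩, hpow⟩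

variable [Finite G]

/-- A regular normal subgroup of a faithful 2-transitive normal subgroup `N` is normal in the whole group. -/
theorem regular_normal_map (hf : FaithfulSMul G Ω) (N : Subgroup G) [N.Normal]
    (hNt : MulAction.IsMultiplyPretransitive N Ω 2) {a b : Ω} (hab : a ≠ b) (R : Subgroup N) [hRn : R.Normal]
    (hRt : MulAction.IsPretransitive R Ω) (hRs : ∀ c : Ω, ∀ r ∈ R, r • c = c → r = 1) :
    (R.map N.subtype).Normal := by
  haveI := hf
  have hRne : R ≠ ⊥ := by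
    rintro rfl
    obtain ⟨⟨k, hk⟩, hkab⟩ := hRt.exists_smul_eq a b
    rw [Subgroup.mem_bot] at hk; subst hk
    exact hab ((one_smul N a).symm.trans hkab)
  obtain ⟨p, hp, -, hP, -⟩ := regular_isPGroup hNt a R hRs hRne
  haveI := Fact.mk hp
  haveI : Nontrivial R := (Subgroup.nontrivial_iff_ne_bot R).mpr hRne
  have huniq : ∀ R' : Subgroup N, R'.Normal → MulAction.IsPretransitive R' Ω → R ≤ R' := by
    intro R' hR'n hR't
    by_contra hne
    have hinf : ∀ z ∈ R, z ∈ R' → z = 1 := by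
      intro z hz hz'
      by_contra hz1
      refine hne fun s hs => ?_
      by_cases hs1 : s = 1
      · exact hs1 ▸ R'.one_mem
      · obtain ⟨k, -, hk⟩ := regular_conj hNt a R hRs z hz hz1 s hs hs1
        exact hk ▸ hR'n.conj_mem z hz' k
    have hcomm : ∀ z ∈ R, ∀ w ∈ R', z * w = w * z := by
      intro z hz w hw
      have h1 : z * w * z⁻¹ * w⁻¹ ∈ R := by
        rw [mul_assoc, mul_assoc]
        exact R.mul_mem hz (by rw [← mul_assoc]; exact hRn.conj_mem _ (R.inv_mem hz) w)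
      have h2' : z * w * z⁻¹ * w⁻¹ ∈ R' := R'.mul_mem (hR'n.conj_mem _ hw z) (R'.inv_mem hw)
      exact commutatorElement_eq_one_iff_mul_comm.mp (hinf _ h1 h2')
    haveI := IsPGroup.center_nontrivial hP
    obtain ⟨⟨z, hz⟩, hz1⟩ := exists_ne (1 : Subgroup.center R)
    obtain ⟨⟨w, hw⟩, hwa⟩ := hR't.exists_smul_eq a ((z : N) • a)
    have hwa : w • a = (z : N) • a := hwa
    apply hz1
    have hzw : (z : N) = w := by
      refine inv_mul_eq_one.mp ((?_ : FaithfulSMul N Ω).eq_of_smul_eq_smul fun y => ?_) |>.symm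
      · exact ⟨fun {u v} h => Subtype.ext (hf.eq_of_smul_eq_smul fun y => h y)⟩
      obtain ⟨⟨s, hs⟩, rfl⟩ := hRt.exists_smul_eq a y
      show (w⁻¹ * (z : N)) • (s • a) = (1 : N) • (s • a)
      have e1 : (z : N) * s = s * z := congrArg Subtype.val (Subgroup.mem_center_iff.mp hz ⟨s, hs⟩).symm
      have e2 : s * w = w * s := hcomm s hs w hw
      rw [one_smul, mul_smul, inv_smul_eq_iff, ← mul_smul (z : N), e1, ← mul_smul w, ← e2, mul_smul,
        mul_smul, hwa]
    exact Subtype.ext (Subtype.ext (hinf _ z.2 (hzw ▸ hw)))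
  refine ⟨fun y hy g => ?_⟩
  obtain ⟨y, hyR, rfl⟩ := hy
  let φ : N ≃* N := MulAut.conjNormal g
  have hφs : ∀ (z : N) (c : Ω), φ z • c = g • (z • (g⁻¹ • c)) := fun z c => by
    show ((φ z : N) : G) • c = _
    rw [MulAut.conjNormal_apply, mul_smul, mul_smul]
    rfl
  let R' := R.comap φ.toMonoidHom
  have hR't : MulAction.IsPretransitive R' Ω := by
    refine ⟨fun c c' => ?_⟩
    obtain ⟨⟨s, hs⟩, hsc⟩ := hRt.exists_smul_eq (g • c) (g • c')
    refine ⟨⟨φ.symm s, show φ (φ.symm s) ∈ R by rw [φ.apply_symm_apply]; exact hs⟩, ?_⟩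
    have h1 := hφs (φ.symm s) (g • c)
    rw [φ.apply_symm_apply, inv_smul_smul] at h1
    exact MulAction.injective g (h1.symm.trans hsc)
  exact ⟨φ y, huniq R' (hRn.comap _) hR't hyR, MulAut.conjNormal_apply g y⟩

end Cfsg.Lib.Perm.ZasAbelian
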