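import Cfsg.Agent.Lib.Perm.ZasAbelian.Main
import Cfsg.Agent.Lib.Perm.ZasAbelian.Regular
import Cfsg.Agent.Lib.Dickson.Orders
import Cfsg.Agent.Lib.Dickson.Mobius

/-!
# Sharply triply transitive groups of degree `p ^ f + 1`, `f` odd
-/

set_option autoImplicit false
set_option linter.style.haveILetI false

namespace Cfsg.Lib.Perm.ZasAbelian

open Cfsg Cfsg.Lib.Char
open scoped OnePoint
open OnePoint

/-- The projective linear group acts faithfully on the line. -/
theorem pgl_toPerm_injective {K : Type*} [Field K] [DecidableEq K] :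
    Function.Injective (MulAction.toPermHom (Matrix.ProjGenLinGroup (Fin 2) K) (OnePoint K)) := by
  refine (injective_iff_map_eq_one _).mpr fun g hg => ?_
  have h : ∀ z : OnePoint K, g • z = z := fun z => Equiv.Perm.ext_iff.mp hg z
  obtain ⟨s, w, rfl⟩ := Dickson.exists_aff_of_smul_infty (h ∞)
  have h0 := h ((0 : K) : OnePoint K)
  have h1 := h ((1 : K) : OnePoint K)
  rw [Dickson.aff_some, OnePoint.coe_eq_coe, mul_zero, zero_add] at h0
  rw [Dickson.aff_some, OnePoint.coe_eq_coe, mul_one, h0, add_zero] at h1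
  rw [h0, show s = 1 from Units.ext h1, Dickson.aff_one]

/-- A cyclic-or-quaternion dichotomy: a quaternion pair. -/
theorem quaternion_pair {P : Type*} [Group P] [Finite P] {n : ℕ} (e : P ≃* QuaternionGroup (2 ^ n))
    (hP : ¬ IsCyclic P) : ∃ x y : P, x * x = y * y ∧ x * x ≠ 1 ∧ x * x * (x * x) = 1 ∧ y * x * y⁻¹ = x⁻¹ := by
  rcases n with _ | n
  · exfalso
    apply hP
    refine isCyclic_of_orderOf_eq_card (e.symm (QuaternionGroup.xa 0)) ?_
    rw [MulEquiv.orderOf_eq, QuaternionGroup.orderOf_xa, Nat.card_congr e.toEquiv, Nat.card_eq_fintype_card,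
      QuaternionGroup.card]
    norm_num
  refine ⟨e.symm (QuaternionGroup.a ((2 ^ n : ℕ) : ZMod (2 * 2 ^ (n + 1)))), e.symm (QuaternionGroup.xa 0), ?_, ?_, ?_, ?_⟩
  all_goals simp only [← map_mul, ← map_inv, ne_eq, EmbeddingLike.map_eq_one_iff, EmbeddingLike.apply_eq_iff_eq,
    QuaternionGroup.a_mul_a, QuaternionGroup.xa_mul_xa, QuaternionGroup.one_def]
  · congr 1
    rw [pow_succ]; push_cast; ring
  · intro h
    injection h with h
    rw [← Nat.cast_add, ZMod.natCast_eq_zero_iff] at h
    have h1 := Nat.le_of_dvd (by positivity) h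
    rw [pow_succ] at h1
    have : 0 < 2 ^ n := by positivity
    omega
  · congr 1
    rw [← Nat.cast_add, ← Nat.cast_add, ZMod.natCast_eq_zero_iff, pow_succ]
    exact ⟨1, by ring⟩
  · show QuaternionGroup.xa 0 * QuaternionGroup.a _ * QuaternionGroup.xa ((2 ^ (n+1) : ℕ) + 0) = QuaternionGroup.a (-_)
    simp only [QuaternionGroup.xa_mul_a, QuaternionGroup.xa_mul_xa]
    congr 1
    have h2 : ((2 * 2 ^ (n + 1) : ℕ) : ZMod (2 * 2 ^ (n + 1))) = 0 := ZMod.natCast_self _
    push_cast at h2 ⊢
    linear_combination h2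

variable {G Ω : Type*} [Group G] [Finite G] [MulAction G Ω] [Fintype Ω]

/-- An involution of a two-point stabilizer inverts an abelian kernel. -/
theorem invol_inverts {a b : Ω} (hab : a ≠ b)
    (h3 : ∀ g : G, ∀ p q r : Ω, p ≠ q → q ≠ r → p ≠ r → g • p = p → g • q = q → g • r = r → g = 1)
    (H : Subgroup G) (hHa : H ≤ MulAction.stabilizer G a)
    (hHfix : ∀ u ∈ H, u ≠ 1 → ∀ c : Ω, u • c = c → c = a) (hHc : ∀ x ∈ H, ∀ y ∈ H, x * y = y * x)
    (hnorm : ∀ g : G, g • a = a → ∀ u ∈ H, g * u * g⁻¹ ∈ H)
    {z : G} (hza : z • a = a) (hzb : z • b = b) (hz2 : z * z = 1) (hz1 : z ≠ 1) :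
    ∀ u ∈ H, z * u * z⁻¹ = u⁻¹ := by
  intro u hu
  have hzi : z⁻¹ = z := inv_eq_of_mul_eq_one_right hz2
  set w := u * (z * u * z⁻¹) with hw
  have hwH : w ∈ H := H.mul_mem hu (hnorm z hza u hu)
  have hzw : z * w * z⁻¹ = w := by
    have hzzu : z * (z * u * z⁻¹) * z⁻¹ = u := by
      rw [hzi, ← mul_assoc, ← mul_assoc, hz2, one_mul, mul_assoc, hz2, mul_one]
    calc z * w * z⁻¹ = (z * u * z⁻¹) * (z * (z * u * z⁻¹) * z⁻¹) := by rw [hw]; group
      _ = w := by rw [hzzu, hw, hHc _ (hnorm z hza u hu) u hu]
  have hw1 : w = 1 := by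
    by_contra hne
    have hwa : w • a = a := hHa hwH
    refine hz1 (h3 z a b (w • b) hab ?_ ?_ hza hzb ?_)
    · exact fun e => hab (hHfix w hwH hne b e.symm).symm
    · exact fun e => hab (MulAction.injective w (hwa.trans e))
    · conv_rhs => rw [← hzw]
      rw [mul_smul (z * w), mul_smul z w, hzi, hzb]
  exact eq_inv_of_mul_eq_one_right hw1

set_option maxHeartbeats 2000000 in
/-- The projective general linear group. -/
theorem pgl_of_sharp (hf : FaithfulSMul G Ω) {p f : ℕ} (hp : p.Prime) (hp2 : p ≠ 2) (hfo : Odd f)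
    (hcard : Fintype.card Ω = p ^ f + 1) (h3t : MulAction.IsMultiplyPretransitive G Ω 3)
    (hsharp : ∀ x : Fin 3 ↪ Ω, MulAction.stabilizer G x = ⊥) :
    ∃ (K : Type) (_ : Field K) (_ : Fintype K), Fintype.card K = p ^ f ∧
      Nonempty (G ≃* Matrix.ProjGenLinGroup (Fin 2) K) := by
  classical
  haveI := hf
  haveI := Fintype.ofFinite G
  haveI := Fact.mk hp
  haveI := h3t
  haveI h2t : MulAction.IsMultiplyPretransitive G Ω 2 := by
    have := hp.two_le
    have := Nat.pow_le_pow_right hp.pos hfo.pos
    exact MulAction.isMultiplyPretransitive_of_le' (n := 3) (by norm_num) (by rw [ENat.card_eq_coe_fintype_card, hcard]; exact_mod_cast (show 3 ≤ p ^ f + 1 by rw [pow_one] at this; omega))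
  obtain ⟨q, hq⟩ : ∃ q, p ^ f = q := ⟨_, rfl⟩
  rw [hq] at hcard
  have hq3 : 3 ≤ q := by
    have h1 := hp.two_le
    have h2 : p ^ 1 ≤ p ^ f := Nat.pow_le_pow_right hp.pos hfo.pos
    rw [pow_one, hq] at h2
    omega
  have hqodd : Odd q := hq ▸ (hp.odd_of_ne_two hp2).pow
  obtain ⟨K, instK, instF, hK, hchar⟩ : ∃ (K : Type) (_ : Field K) (_ : Fintype K),
      Fintype.card K = q ∧ CharP K p := by
    haveI : Fintype (GaloisField p f) := Fintype.ofFinite _
    exact ⟨GaloisField p f, inferInstance, inferInstance,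
      by rw [← Nat.card_eq_fintype_card, GaloisField.card p f hfo.pos.ne', hq], inferInstance⟩
  haveI := hchar
  refine ⟨K, instK, instF, hK.trans hq.symm, ?_⟩
  have h3 : ∀ g : G, ∀ u v w : Ω, u ≠ v → v ≠ w → u ≠ w → g • u = u → g • v = v → g • w = w → g = 1 := by
    intro g u v w huv hvw huw h1 h2 h3
    let x : Fin 3 ↪ Ω := ⟨![u, v, w], fun i j hij => by
      fin_cases i <;> fin_cases j <;> first | rfl | (exfalso; simp_all)⟩
    have hx : g ∈ MulAction.stabilizer G x := by
      rw [MulAction.mem_stabilizer_iff]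
      ext i; fin_cases i <;> assumption
    rw [hsharp x, Subgroup.mem_bot] at hx
    exact hx
  have h3ex : ∀ u v w u' v' w' : Ω, u ≠ v → v ≠ w → u ≠ w → u' ≠ v' → v' ≠ w' → u' ≠ w' →
      ∃ g : G, g • u = u' ∧ g • v = v' ∧ g • w = w' := by
    intro u v w u' v' w' e1 e2 e3 e4 e5 e6
    let x : Fin 3 ↪ Ω := ⟨![u, v, w], fun i j hij => by
      fin_cases i <;> fin_cases j <;> first | rfl | (exfalso; simp_all)⟩
    let y : Fin 3 ↪ Ω := ⟨![u', v', w'], fun i j hij => by
      fin_cases i <;> fin_cases j <;> first | rfl | (exfalso; simp_all)⟩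
    obtain ⟨g, hg⟩ := MulAction.exists_smul_eq G x y
    exact ⟨g, DFunLike.congr_fun hg 0, DFunLike.congr_fun hg 1, DFunLike.congr_fun hg 2⟩
  obtain ⟨a, b, c₀, hab, hac, hbc⟩ := Fintype.two_lt_card_iff.1 (show 2 < Fintype.card Ω by omega)
  set D : Subgroup G := MulAction.stabilizer G a ⊓ MulAction.stabilizer G b with hD
  have hDcard : Nat.card D = q - 1 := by
    let S := {c : Ω // c ∈ ((Finset.univ : Finset Ω).erase a).erase b}
    have hS : Nat.card S = q - 1 := by
      rw [Nat.card_eq_fintype_card, Fintype.card_coe,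
        Finset.card_erase_of_mem (Finset.mem_erase.mpr ⟨hab.symm, Finset.mem_univ _⟩),
        Finset.card_erase_of_mem (Finset.mem_univ _), Finset.card_univ, hcard]
      omega
    rw [← hS]
    refine Nat.card_congr (Equiv.ofBijective (fun g : D => (⟨(g : G) • c₀, ?_⟩ : S)) ⟨?_, ?_⟩)
    · refine Finset.mem_erase.mpr ⟨fun e => hbc (MulAction.injective (g : G) (e.trans ?_)).symm,
        Finset.mem_erase.mpr ⟨fun e => hac (MulAction.injective (g : G) (e.trans ?_)).symm, Finset.mem_univ _⟩⟩
      · exact g.2.2.symm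
      · exact g.2.1.symm
    · intro g k hgk
      have e : (g : G) • c₀ = (k : G) • c₀ := congrArg Subtype.val hgk
      have hm : (k : G)⁻¹ * g ∈ D := D.mul_mem (D.inv_mem k.2) g.2
      exact (Subtype.ext (inv_mul_eq_one.mp (h3 _ a b c₀ hab hbc hac hm.1 hm.2
        (by rw [mul_smul, e, inv_smul_smul])))).symm
    · rintro ⟨c, hc⟩
      obtain ⟨hcb, hca, -⟩ : c ≠ b ∧ c ≠ a ∧ True := ⟨Finset.ne_of_mem_erase hc,
        Finset.ne_of_mem_erase (Finset.mem_of_mem_erase hc), trivial⟩
      obtain ⟨g, hga, hgb, hgc⟩ := h3ex a b c₀ a b c hab hbc hac hab hcb.symm hca.symm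
      exact ⟨⟨g, hga, hgb⟩, Subtype.ext hgc⟩
  have hGcard : Nat.card G = (q + 1) * (q * (q - 1)) := by
    have h1 : (MulAction.stabilizer G a).index = q + 1 := by
      haveI : MulAction.IsPretransitive G Ω := MulAction.isPretransitive_of_is_two_pretransitive
      rw [MulAction.index_stabilizer_of_transitive, Nat.card_eq_fintype_card, hcard]
    rw [← (MulAction.stabilizer G a).card_mul_index, h1,
      ← Subgroup.card_mul_index (MulAction.stabilizer (MulAction.stabilizer G a) b)]
    have h2 : Nat.card (MulAction.stabilizer (MulAction.stabilizer G a) b) = q - 1 := by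
      rw [← hDcard]
      exact Nat.card_congr ⟨fun g => ⟨(g.1 : G), g.1.2, g.2⟩, fun g => ⟨⟨g.1, g.2.1⟩, g.2.2⟩,
        fun _ => rfl, fun _ => rfl⟩
    have h4 : (MulAction.stabilizer (MulAction.stabilizer G a) b).index = q := by
      rw [MulAction.index_stabilizer, show MulAction.orbit (MulAction.stabilizer G a) b = ({a} : Set Ω)ᶜ from ?_,
        Set.ncard_compl, Set.ncard_singleton, Nat.card_eq_fintype_card, hcard, Nat.add_sub_cancel]
      ext y
      constructor
      · rintro ⟨g, rfl⟩ (h : (g : G) • b = a)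
        have hga : (g : G) • a = a := g.2
        exact hab (MulAction.injective (g : G) (hga.trans h.symm))
      · intro hy
        obtain ⟨g, h1, h2⟩ := MulAction.is_two_pretransitive_iff.1 h2t hab (Ne.symm hy)
        exact ⟨⟨g, h1⟩, h2⟩
    rw [h2, h4]; ring
  have hmu := pgl_toPerm_injective (K := K)
  have hPGL : Nat.card (Matrix.ProjGenLinGroup (Fin 2) K) = (q + 1) * (q * (q - 1)) := by
    rw [Dickson.card_PGL_two_eq, show Fintype.card K = q from hK, show q ^ 2 - 1 = (q + 1) * (q - 1) by rw [← Nat.sq_sub_sq, one_pow]]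
    ring
  -- reduce to an inclusion of permutation groups
  suffices h : ∀ (e : OnePoint K ≃ Ω), True → (∀ g : G, ∃ A : Matrix.ProjGenLinGroup (Fin 2) K,
      ∀ z, e (A • z) = g • e z) → Nonempty (G ≃* Matrix.ProjGenLinGroup (Fin 2) K) by
    by_cases hq5 : q = 3
    · -- the symmetric group on four points
      let e : OnePoint K ≃ Ω := Fintype.equivOfCardEq (by
        rw [show Fintype.card (OnePoint K) = Fintype.card (Option K) from rfl, Fintype.card_option, hK, hcard])
      refine h e trivial fun g => ?_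
      have hsurj : Function.Surjective (MulAction.toPermHom (Matrix.ProjGenLinGroup (Fin 2) K) (OnePoint K)) := by
        refine ((Nat.bijective_iff_injective_and_card _).mpr ⟨hmu, ?_⟩).2
        rw [hPGL, Nat.card_perm, Nat.card_eq_fintype_card,
          show Fintype.card (OnePoint K) = Fintype.card (Option K) from rfl, Fintype.card_option, hK, hq5]
        rfl
      obtain ⟨A, hA⟩ := hsurj (e.symm.permCongr (MulAction.toPerm g))
      refine ⟨A, fun z => ?_⟩
      have hz : A • z = e.symm.permCongr (MulAction.toPerm g) z := Equiv.Perm.ext_iff.mp hA z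
      rw [hz]; simp
    -- no regular normal subgroup
    have hnoreg : ∀ R : Subgroup G, R.Normal → MulAction.IsPretransitive R Ω →
        (∀ c : Ω, ∀ r ∈ R, r • c = c → r = 1) → False := by
      intro R hRn hRt hRs
      haveI := hRn
      obtain ⟨⟨r₀, hr₀R⟩, hr₀a⟩ := hRt.exists_smul_eq a b
      have hr₀a : r₀ • a = b := hr₀a
      have hr₀ne : r₀ ≠ 1 := fun e => hab (by rw [← hr₀a, e, one_smul])
      have hRne : R ≠ ⊥ := fun e => hr₀ne (Subgroup.mem_bot.mp (e ▸ hr₀R))
      have hRc : Nat.card R = q + 1 := by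
        rw [← hcard, ← Nat.card_eq_fintype_card]
        exact Nat.card_congr (Equiv.ofBijective (fun r : R => (r : G) • a)
          ⟨fun r s h => Subtype.ext (inv_mul_eq_one.mp (hRs a _ (R.mul_mem (R.inv_mem s.2) r.2)
            (by rw [mul_smul, show (r : G) • a = (s : G) • a from h, inv_smul_smul]))).symm,
          fun y => hRt.exists_smul_eq a y⟩)
      obtain ⟨ℓ, hℓ, hℓd, hP, hpow⟩ := regular_isPGroup h2t a R hRs hRne
      haveI := Fact.mk hℓ
      obtain ⟨j, hj⟩ := IsPGroup.iff_card.mp hP
      obtain rfl : ℓ = 2 := by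
        have h2 : 2 ∣ ℓ ^ j := by rw [← hj, hRc]; exact hqodd.add_one.two_dvd
        exact ((Nat.prime_dvd_prime_iff_eq Nat.prime_two hℓ).mp (Nat.prime_two.dvd_of_dvd_pow h2)).symm
      haveI : Fact (Nat.Prime 2) := ⟨Nat.prime_two⟩
      obtain ⟨z, hz⟩ := exists_prime_orderOf_dvd_card' (G := D) 2 (by
        rw [hDcard]; exact hqodd.tsub_odd odd_one |>.two_dvd)
      rw [← Subgroup.orderOf_coe] at hz
      obtain ⟨hza, hzb⟩ := z.2
      have hz2 : (z : G) * z = 1 := by rw [← pow_two, ← hz, pow_orderOf_eq_one]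
      have hz1 : (z : G) ≠ 1 := fun e => by rw [e, orderOf_one] at hz; omega
      have hRcomm : ∀ r ∈ R, ∀ s ∈ R, r * s = s * r := by
        intro r hr s hs
        have h1 := hpow _ (R.mul_mem hr hs)
        have e1 : r⁻¹ = r := inv_eq_of_mul_eq_one_right (by rw [← pow_two]; exact hpow r hr)
        have e2 : s⁻¹ = s := inv_eq_of_mul_eq_one_right (by rw [← pow_two]; exact hpow s hs)
        have e3 : (r * s)⁻¹ = r * s := inv_eq_of_mul_eq_one_right (by rw [← pow_two]; exact h1)
        rw [← e3, mul_inv_rev, e1, e2]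
      let F : R →* R :=
        { toFun := fun r => ⟨r * ((z : G) * r * (z : G)⁻¹), R.mul_mem r.2 (hRn.conj_mem r r.2 z)⟩
          map_one' := Subtype.ext (by simp)
          map_mul' := fun r s => Subtype.ext (by
            show (r : G) * s * ((z : G) * ((r : G) * s) * (z : G)⁻¹) =
              (r : G) * ((z : G) * r * (z : G)⁻¹) * ((s : G) * ((z : G) * s * (z : G)⁻¹))
            calc (r : G) * s * ((z : G) * ((r : G) * s) * (z : G)⁻¹)
                = (r : G) * ((s : G) * ((z : G) * r * (z : G)⁻¹)) * ((z : G) * s * (z : G)⁻¹) := by group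
              _ = _ := by rw [hRcomm _ s.2 _ (hRn.conj_mem r r.2 z)]; group) }
      have hfix : ∀ r : R, (z : G) * r * (z : G)⁻¹ = r → r = 1 ∨ r = ⟨r₀, hr₀R⟩ := by
        intro r hr
        have hzra : (z : G) • ((r : G) • a) = (r : G) • a := by
          conv_rhs => rw [← hr]
          rw [mul_smul, mul_smul, show (z : G)⁻¹ • a = a by rw [inv_smul_eq_iff]; exact hza.symm]
        by_cases e1 : (r : G) • a = a
        · exact Or.inl (Subtype.ext (hRs a r r.2 e1))
        by_cases e2 : (r : G) • a = b
        · exact Or.inr (Subtype.ext (inv_mul_eq_one.mp (hRs a _ (R.mul_mem (R.inv_mem hr₀R) r.2)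
            (by rw [mul_smul, e2, ← hr₀a, inv_smul_smul]))).symm)
        exact absurd (h3 z a b _ hab (Ne.symm e2) (Ne.symm e1) hza hzb hzra) hz1
      have hker : Nat.card F.ker ≤ 2 := by
        have hsub : (F.ker : Set R) ⊆ {1, ⟨r₀, hr₀R⟩} := fun r hr => hfix r (by
          have h1 : (r : G) * ((z : G) * r * (z : G)⁻¹) = 1 := congrArg Subtype.val hr
          exact mul_left_cancel (h1.trans (show (1 : G) = r * r by rw [← pow_two]; exact (hpow r r.2).symm)))
        calc Nat.card F.ker = (F.ker : Set R).ncard := (Nat.card_coe_set_eq _)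
          _ ≤ ({1, ⟨r₀, hr₀R⟩} : Set R).ncard := Set.ncard_le_ncard hsub
          _ ≤ 2 := by
            refine (Set.ncard_insert_le _ _).trans ?_
            rw [Set.ncard_singleton]
      have hrg : Nat.card F.range ≤ 2 := by
        have hsub : (F.range : Set R) ⊆ {1, ⟨r₀, hr₀R⟩} := by
          rintro _ ⟨r, rfl⟩
          refine hfix _ ?_
          show (z : G) * ((r : G) * ((z : G) * r * (z : G)⁻¹)) * (z : G)⁻¹ = r * ((z : G) * r * (z : G)⁻¹)
          rw [hRcomm _ r.2 _ (hRn.conj_mem r r.2 z)]
          calc (z : G) * ((z : G) * r * (z : G)⁻¹ * r) * (z : G)⁻¹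
              = ((z : G) * z) * r * ((z : G) * z)⁻¹ * ((z : G) * r * (z : G)⁻¹) := by group
            _ = _ := by rw [hz2, one_mul, inv_one, mul_one, hRcomm _ r.2 _ (hRn.conj_mem r r.2 z)]
        calc Nat.card F.range = (F.range : Set R).ncard := (Nat.card_coe_set_eq _)
          _ ≤ ({1, ⟨r₀, hr₀R⟩} : Set R).ncard := Set.ncard_le_ncard hsub
          _ ≤ 2 := by
            refine (Set.ncard_insert_le _ _).trans ?_
            rw [Set.ncard_singleton]
      have h1 := F.ker.card_mul_index
      rw [Subgroup.index_ker, hRc] at h1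
      have h4 := Nat.mul_le_mul hker hrg
      obtain ⟨m, hm⟩ := hqodd
      omega
    have hZ : IsZassenhausGroup G Ω := by
      refine ⟨hf, h2t, h3, ?_, fun R hRn hRt => ?_⟩
      · obtain ⟨g, hg⟩ := (Subgroup.bot_or_exists_ne_one D).resolve_left fun e => by
          rw [e, Subgroup.card_bot] at hDcard; omega
        exact ⟨g, hg.2, a, b, hab, hg.1.1, hg.1.2⟩
      · by_contra hh
        push Not at hh
        exact hnoreg R hRn hRt fun c r hr hrc =>
          congrArg Subtype.val ((Subgroup.eq_bot_iff_forall _).mp (hh c) ⟨r, hr⟩ hrc)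
    -- the kernel
    obtain ⟨N, hNn, -, hc, -, hfix⟩ := zas_exists_kernel hZ hab
    haveI := hNn
    set F := N.map (MulAction.stabilizer G a).subtype with hF
    have hFle : F ≤ MulAction.stabilizer G a := Subgroup.map_subtype_le _
    have hFn : (F.subgroupOf (MulAction.stabilizer G a)).Normal := by
      rw [hF, Subgroup.subgroupOf, Subgroup.comap_map_eq_self_of_injective Subtype.val_injective]
      exact hNn
    have hFfix : ∀ u ∈ F, u ≠ 1 → ∀ c : Ω, u • c = c → c = a := by
      rintro _ ⟨u, hu, rfl⟩ hu1 c hcu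
      exact hfix u hu (fun e => hu1 (by rw [e]; rfl)) c hcu
    have hFq : Nat.card F = q := by
      have h1 := hc.card_mul
      obtain ⟨hA1, -⟩ := zas_card_group hZ hab
      rw [Nat.card_congr (Subgroup.subgroupOfEquivOfLe (show D ≤ MulAction.stabilizer G a from inf_le_left)).toEquiv,
        hA1] at h1
      rw [hF, Subgroup.card_subtype, Nat.eq_of_mul_eq_mul_right Nat.card_pos h1, hcard]
      rfl
    have hFcard : Nat.card F + 1 = Fintype.card Ω := by omega
    have hreg : ∀ y z : Ω, y ≠ a → z ≠ a → ∃! u : F, (u : G) • y = z := by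
      intro y z hy hz
      obtain ⟨v, hv, hvz⟩ := kernel_transitive (Ne.symm hy) F hFle hFcard hFfix hz
      refine ⟨⟨v, hv⟩, hvz, fun w hw => Subtype.ext ?_⟩
      by_contra hne
      exact hy (hFfix (v⁻¹ * (w : G)) (F.mul_mem (F.inv_mem hv) w.2)
        (fun e => hne (inv_mul_eq_one.mp e).symm) y (by rw [mul_smul, hw, ← hvz, inv_smul_smul]))
    have hFc : ∀ x ∈ F, ∀ y ∈ F, x * y = y * x := fun x hx y hy =>
      congrArg Subtype.val ((Cfsg.Agent.S0738.result hZ hab (by rw [← hD, hcard, hDcard]; omega) F hFle hFn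
        hreg).1.is_comm.comm (⟨x, hx⟩ : F) ⟨y, hy⟩)
    have hFnorm : ∀ g : G, g • a = a → ∀ u ∈ F, g * u * g⁻¹ ∈ F := fun g hg u hu =>
      hFn.conj_mem ⟨u, hFle hu⟩ hu ⟨g, hg⟩
    -- an odd permutation fixing the two points
    obtain ⟨h₀, hh₀D, hh₀sgn⟩ : ∃ h₀ : G, h₀ ∈ D ∧
        Equiv.Perm.sign (MulAction.toPerm h₀ : Equiv.Perm Ω) = -1 := by
      haveI : Fact (Nat.Prime 2) := ⟨Nat.prime_two⟩
      obtain ⟨P⟩ : Nonempty (Sylow 2 D) := inferInstance
      have hZc := zas_frobenius hZ hab
      have hcyc : IsCyclic P := by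
        have hN1 : N ≠ ⊥ := fun e => by
          rw [hF, e, Subgroup.map_bot, Subgroup.card_bot] at hFq; omega
        have hfpf := (Cfsg.Agent.S0039.result N _ hc hN1 hZc.1).mp hZc
        let eD := Subgroup.subgroupOfEquivOfLe (show D ≤ MulAction.stabilizer G a from inf_le_left)
        let P' : Sylow 2 (D.subgroupOf (MulAction.stabilizer G a)) :=
          P.comapOfInjective eD.toMonoidHom eD.injective (by rw [MonoidHom.range_eq_top.mpr eD.surjective]; exact le_top)
        have ePP : P' ≃* P := by
          refine MulEquiv.trans ((P' : Subgroup _).equivMapOfInjective eD.toMonoidHom eD.injective) ?_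
          refine MulEquiv.subgroupCongr ?_
          show Subgroup.map eD.toMonoidHom ((P : Subgroup D).comap eD.toMonoidHom) = _
          rw [Subgroup.map_comap_eq_self (by rw [MonoidHom.range_eq_top.mpr eD.surjective]; exact le_top)]
        rcases Cfsg.Agent.S0040.result N _ hc hN1 hfpf 2 P' with h' | ⟨n, ⟨e⟩⟩
        · exact isCyclic_of_surjective ePP.toMonoidHom ePP.surjective
        by_contra hnc
        obtain ⟨x, y, hxy, hx1, hx4, hyx⟩ := quaternion_pair (ePP.symm.trans e) hnc
        let X : G := ((x : D) : G)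
        let Y : G := ((y : D) : G)
        have hX : X ∈ D := (x : D).2
        have hY : Y ∈ D := (y : D).2
        have hXY : X * X = Y * Y := congrArg (fun w : P => ((w : D) : G)) hxy
        have hYX : Y * X * Y⁻¹ = X⁻¹ := congrArg (fun w : P => ((w : D) : G)) hyx
        have hX1 : X * X ≠ 1 := fun e' => hx1 (Subtype.ext (Subtype.ext e'))
        have hX4 : X * X * (X * X) = 1 := congrArg (fun w : P => ((w : D) : G)) hx4
        have hm1 := invol_inverts hab h3 F hFle hFfix hFc hFnorm (z := X * X) (D.mul_mem hX hX).1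
          (D.mul_mem hX hX).2 hX4 hX1
        by_cases h4 : p % 4 = 1
        · -- two eigenspaces of equal size
          obtain ⟨i, hi⟩ : IsSquare (-1 : ZMod p) := ZMod.exists_sq_eq_neg_one_iff.mpr (by omega)
          have hpow : ∀ u ∈ F, u ^ p = 1 := by
            obtain ⟨-, p', f', hp', hpow, hcard'⟩ := Cfsg.Agent.S0738.result hZ hab
              (by rw [← hD, hcard, hDcard]; omega) F hFle hFn hreg
            have hpp : p' = p := by
              have h1 : p' ^ f' = p ^ f := by omega
              have hf' : f' ≠ 0 := by rintro rfl; rw [pow_zero] at h1; omega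
              exact (Nat.prime_dvd_prime_iff_eq hp' hp).mp (hp'.dvd_of_dvd_pow (h1 ▸ dvd_pow_self p' hf'))
            rw [← hpp]; exact hpow
          letI : CommGroup F := { (inferInstance : Group F) with
            mul_comm := fun u v => Subtype.ext (hFc _ u.2 _ v.2) }
          let cX : F →* F :=
            { toFun := fun u => ⟨X * u * X⁻¹, hFnorm X hX.1 u u.2⟩
              map_one' := Subtype.ext (by simp)
              map_mul' := fun u v => Subtype.ext (by simp [mul_assoc]) }
          let cY : F →* F :=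
            { toFun := fun u => ⟨Y * u * Y⁻¹, hFnorm Y hY.1 u u.2⟩
              map_one' := Subtype.ext (by simp)
              map_mul' := fun u v => Subtype.ext (by simp [mul_assoc]) }
          have hXX : ∀ u, cX (cX u) = u⁻¹ := fun u => Subtype.ext (by
            show X * (X * u * X⁻¹) * X⁻¹ = (u : G)⁻¹
            rw [← hm1 u u.2]; group)
          have hYY : ∀ u, cY (cY u) = u⁻¹ := fun u => Subtype.ext (by
            show Y * (Y * u * Y⁻¹) * Y⁻¹ = (u : G)⁻¹
            rw [← hm1 u u.2, hXY]; group)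
          have hYXu : ∀ u, cY (cX u) = (cX (cY u))⁻¹ := fun u => by
            rw [← hXX (cX (cY u)), hXX (cY u), map_inv]
            exact Subtype.ext (by
              show Y * (X * u * X⁻¹) * Y⁻¹ = (X * (Y * u * Y⁻¹) * X⁻¹)⁻¹
              have hh : (X * (Y * u * Y⁻¹) * X⁻¹)⁻¹ = X⁻¹ * (Y * u * Y⁻¹) * X := by
                rw [← hm1 (X * (Y * u * Y⁻¹) * X⁻¹) (hFnorm X hX.1 _ (hFnorm Y hY.1 u u.2))]
                calc X * X * (X * (Y * u * Y⁻¹) * X⁻¹) * (X * X)⁻¹
                    = (X * X * (X * X)) * (X⁻¹ * (Y * u * Y⁻¹) * X) * (X * X * (X * X))⁻¹ := by group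
                  _ = _ := by rw [hX4, one_mul, inv_one, mul_one]
              rw [hh]
              conv_rhs => rw [show X⁻¹ * (Y * u * Y⁻¹) * X = X⁻¹ * (Y * u * Y⁻¹) * (X⁻¹)⁻¹ by rw [inv_inv], ← hYX]
              group)
          let n := i.val
          have hn2 : ∀ u : F, (u ^ n) ^ n = u⁻¹ := fun u => by
            rw [← pow_mul]
            have h1 : p ∣ n * n + 1 := by
              rw [← ZMod.natCast_eq_zero_iff]; push_cast; rw [ZMod.natCast_zmod_val, ← hi]; ring
            obtain ⟨k, hk⟩ := h1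
            refine eq_inv_of_mul_eq_one_left ?_
            rw [← pow_succ, hk, pow_mul, Subtype.ext (show ((u : F) ^ p : F).1 = (1 : F).1 by
              rw [SubmonoidClass.coe_pow]; exact hpow u u.2), one_pow]
          let A : Subgroup F :=
            { carrier := {u | cX u = u ^ n}
              one_mem' := by simp
              mul_mem' := fun {u v} hu hv => by
                show cX (u * v) = (u * v) ^ n
                rw [map_mul, show cX u = u ^ n from hu, show cX v = v ^ n from hv, mul_pow]
              inv_mem' := fun {u} hu => by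
                show cX u⁻¹ = u⁻¹ ^ n
                rw [map_inv, show cX u = u ^ n from hu, inv_pow] }
          let B : Subgroup F :=
            { carrier := {u | cX u = (u ^ n)⁻¹}
              one_mem' := by simp
              mul_mem' := fun {u v} hu hv => by
                show cX (u * v) = ((u * v) ^ n)⁻¹
                rw [map_mul, show cX u = (u ^ n)⁻¹ from hu, show cX v = (v ^ n)⁻¹ from hv, mul_pow, mul_inv]
              inv_mem' := fun {u} hu => by
                show cX u⁻¹ = (u⁻¹ ^ n)⁻¹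
                rw [map_inv, show cX u = (u ^ n)⁻¹ from hu, inv_pow] }
          have h2inj : ∀ u : F, u * u = 1 → u = 1 := by
            intro u hu
            have h1 : orderOf u ∣ 2 := orderOf_dvd_of_pow_eq_one (by rw [pow_two]; exact hu)
            have h2 : orderOf u ∣ q := hFq ▸ orderOf_dvd_natCard u
            have h5 := Nat.dvd_gcd h1 h2
            rw [Nat.coprime_two_left.mpr hqodd] at h5
            exact orderOf_eq_one_iff.mp (Nat.dvd_one.mp h5)
          have hdisj : Disjoint A B := by
            rw [Subgroup.disjoint_def]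
            intro u hA hB
            have h1 : (u ^ n) = (u ^ n)⁻¹ := (show cX u = u ^ n from hA).symm.trans hB
            have h2 : u ^ n = 1 := h2inj _ (by nth_rewrite 2 [h1]; exact mul_inv_cancel _)
            rw [← inv_eq_one, ← hn2 u, h2, one_pow]
          have hsup : Codisjoint A B := by
            rw [codisjoint_iff, eq_top_iff]
            intro u _
            -- halve
            have hsq : Function.Surjective (fun w : F => w * w) :=
              Finite.injective_iff_surjective.mp fun v w hvw => by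
                refine (inv_mul_eq_one.mp (h2inj _ ?_)).symm
                calc w⁻¹ * v * (w⁻¹ * v) = (w * w)⁻¹ * (v * v) := by
                      rw [mul_inv, mul_mul_mul_comm]
                  _ = 1 := by rw [show v * v = w * w from hvw, inv_mul_cancel]
            obtain ⟨w, hw⟩ := hsq u
            have hA' : w * ((cX w) ^ n)⁻¹ ∈ A := by
              show cX _ = _
              rw [map_mul, map_inv, map_pow, hXX, inv_pow, inv_inv, mul_pow, inv_pow, hn2, inv_inv, mul_comm]
            have hB' : w * (cX w) ^ n ∈ B := by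
              show cX _ = _
              rw [map_mul, map_pow, hXX, inv_pow, mul_pow, hn2, mul_inv, inv_inv, mul_comm]
            have := Subgroup.mul_mem_sup hA' hB'
            rwa [show w * ((cX w) ^ n)⁻¹ * (w * (cX w) ^ n) = w * w by
              rw [mul_mul_mul_comm, inv_mul_cancel, mul_one], show w * w = u from hw] at this
          have hAB : Nat.card A = Nat.card B := by
            refine le_antisymm (Nat.card_le_card_of_injective (fun u : A => (⟨cY u.1, ?_⟩ : B)) ?_)
              (Nat.card_le_card_of_injective (fun u : B => (⟨cY u.1, ?_⟩ : A)) ?_)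
            · show cX (cY u.1) = _
              rw [← inv_inv (cX (cY u.1)), ← hYXu, show cX u.1 = _ from u.2, map_pow]
            · intro u v huv
              refine Subtype.ext (inv_injective ?_)
              rw [← hYY, ← hYY, show cY u.1 = cY v.1 from congrArg Subtype.val huv]
            · show cX (cY u.1) = _
              rw [← inv_inv (cX (cY u.1)), ← hYXu, show cX u.1 = _ from u.2, map_inv, map_pow, inv_inv]
            · intro u v huv
              refine Subtype.ext (inv_injective ?_)
              rw [← hYY, ← hYY, show cY u.1 = cY v.1 from congrArg Subtype.val huv]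
          have hcm := (Subgroup.isComplement'_of_disjoint_and_mul_eq_univ hdisj (by
            rw [← Subgroup.normal_mul, hsup.eq_top]; rfl)).card_mul
          rw [hFq, hAB, ← hq] at hcm
          obtain ⟨k, hk⟩ := (Nat.dvd_prime_pow hp (i := Nat.card B) (m := f)).mp (by
            rw [hq, ← hFq]; exact Subgroup.card_subgroup_dvd_card B)
          rw [hk.2, ← pow_add] at hcm
          have := Nat.pow_right_injective hp.two_le hcm
          obtain ⟨j, hj⟩ := hfo
          omega
        · -- the order of `X` is four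
          have ho : orderOf (⟨X, hX⟩ : D) = 4 := by
            rw [← Subgroup.orderOf_coe]
            exact orderOf_eq_prime_pow (p := 2) (n := 1) (by rw [pow_one, pow_two]; exact hX1)
              (by rw [show (2 : ℕ) ^ (1 + 1) = 2 + 2 by norm_num, pow_add, pow_two]; exact hX4)
          have h5 : 4 ∣ q - 1 := hDcard ▸ ho ▸ orderOf_dvd_natCard _
          have hmod : q % 4 = 3 := by
            obtain ⟨j, rfl⟩ := hfo
            have hp4 : p % 4 = 3 := by
              obtain ⟨m, hm⟩ := hp.odd_of_ne_two hp2; omega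
            rw [← hq, Nat.pow_mod, hp4, pow_succ, pow_mul, Nat.mul_mod, Nat.pow_mod]
            norm_num
          omega
      haveI := hcyc
      obtain ⟨g, hg⟩ := IsCyclic.exists_generator (α := P)
      let h₀ : G := ((g : D) : G)
      have ho : orderOf h₀ = 2 ^ (q - 1).factorization 2 := by
        show orderOf (((g : D) : G)) = _
        rw [Subgroup.orderOf_coe, Subgroup.orderOf_coe, orderOf_eq_card_of_forall_mem_zpowers hg,
          P.card_eq_multiplicity, hDcard]
      set o := 2 ^ (q - 1).factorization 2 with hodef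
      refine ⟨h₀, (g : D).2, ?_⟩
      set σ : Equiv.Perm Ω := MulAction.toPerm h₀ with hσ
      have hσord : orderOf σ = o := by
        rw [← ho]
        exact orderOf_injective (MulAction.toPermHom G Ω) MulAction.toPerm_injective h₀
      have ht1 : 1 ≤ (q - 1).factorization 2 :=
        Nat.prime_two.factorization_pos_of_dvd (by omega) (hqodd.tsub_odd odd_one).two_dvd
      have hfixpow : ∀ n, 0 < n → n < o → ∀ c, c ≠ a → c ≠ b → (σ ^ n) c ≠ c := by
        intro n hn hno c hca hcb hc'
        have h1 : h₀ ^ n = 1 := by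
          have hp' : σ ^ n = MulAction.toPerm (h₀ ^ n) :=
            ((MulAction.toPermHom G Ω).map_pow h₀ n).symm
          rw [hp'] at hc'
          have hm := D.pow_mem (g : D).2 n
          exact h3 _ a b c hab hcb.symm hca.symm hm.1 hm.2 hc'
        have := Nat.le_of_dvd hn (ho ▸ orderOf_dvd_of_pow_eq_one h1)
        omega
      have hall : ∀ n ∈ σ.cycleType, n = o := by
        intro n hn
        have hno : n ∣ o := hσord ▸ (Equiv.Perm.lcm_cycleType σ ▸ Multiset.dvd_lcm hn)
        rcases (Nat.le_of_dvd (by positivity) hno).lt_or_eq with hlt | heq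
        · exfalso
          obtain ⟨cy, τ, hστ, hd, hcy, hcard'⟩ := Equiv.Perm.mem_cycleType_iff.mp hn
          obtain ⟨c, hc'⟩ := Finset.card_pos.mp (show 0 < cy.support.card by
            have := Equiv.Perm.two_le_of_mem_cycleType hn; omega)
          have hτ : τ c = c := Equiv.Perm.notMem_support.mp
            (Finset.disjoint_left.mp hd.disjoint_support hc')
          have hσc : σ c ≠ c := by
            rw [hστ, Equiv.Perm.mul_apply, hτ]; exact Equiv.Perm.mem_support.mp hc'
          refine hfixpow n (by have := Equiv.Perm.two_le_of_mem_cycleType hn; omega) hlt c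
            (fun e => hσc (by rw [e]; exact (g : D).2.1)) (fun e => hσc (by rw [e]; exact (g : D).2.2)) ?_
          rw [hστ, hd.commute.mul_pow, Equiv.Perm.mul_apply, Equiv.Perm.pow_apply_eq_self_of_apply_eq_self hτ,
            ← hcard', ← hcy.orderOf, pow_orderOf_eq_one, Equiv.Perm.one_apply]
        · exact heq
      have hrep := Multiset.eq_replicate_card.mpr hall
      have hsum : σ.cycleType.sum = q - 1 := by
        rw [Equiv.Perm.sum_cycleType]
        have hsupp : σ.support = ((Finset.univ : Finset Ω).erase a).erase b := by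
          ext c
          simp only [Equiv.Perm.mem_support, Finset.mem_erase, Finset.mem_univ, and_true]
          constructor
          · exact fun h => ⟨fun e => h (by rw [e]; exact (g : D).2.2), fun e => h (by rw [e]; exact (g : D).2.1)⟩
          · rintro ⟨hcb, hca⟩
            have := hfixpow 1 one_pos (by rw [hodef]; exact Nat.one_lt_pow (by omega) one_lt_two) c hca hcb
            rwa [pow_one] at this
        rw [hsupp, Finset.card_erase_of_mem (Finset.mem_erase.mpr ⟨hab.symm, Finset.mem_univ _⟩),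
          Finset.card_erase_of_mem (Finset.mem_univ _), Finset.card_univ, hcard]
        omega
      rw [Equiv.Perm.sign_of_cycleType, hsum]
      have hodd : Odd (Multiset.card σ.cycleType) := by
        rw [hrep, Multiset.sum_replicate, smul_eq_mul] at hsum
        rw [← Nat.not_even_iff_odd]
        rintro ⟨j, hj⟩
        have h1 : 2 ^ ((q - 1).factorization 2 + 1) ∣ q - 1 := ⟨j, by
          calc q - 1 = Multiset.card σ.cycleType * o := hsum.symm
            _ = _ := by rw [hj, hodef, pow_succ]; ring⟩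
        have h2 := (Nat.prime_two.pow_dvd_iff_le_factorization (by omega)).mp h1
        omega
      exact ((hqodd.tsub_odd odd_one).add_odd hodd).neg_one_pow
    -- the even half
    let sgn : G →* ℤˣ := (Equiv.Perm.sign).comp (MulAction.toPermHom G Ω)
    set G₀ := sgn.ker with hG₀
    have hh₀ : h₀ ∉ G₀ := fun e => by
      have : Equiv.Perm.sign (MulAction.toPerm h₀ : Equiv.Perm Ω) = 1 := e
      rw [hh₀sgn] at this
      exact absurd this (by decide)
    have hcoset : ∀ g : G, g ∉ G₀ → h₀⁻¹ * g ∈ G₀ := by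
      intro g hg
      show sgn (h₀⁻¹ * g) = 1
      have h1 : sgn g = -1 := (Int.units_eq_one_or _).resolve_left hg
      have h2 : sgn h₀ = -1 := hh₀sgn
      rw [map_mul, map_inv, h1, h2]; rfl
    have hFG₀ : F ≤ G₀ := fun u hu => by
      show sgn u = 1
      rcases Int.units_eq_one_or (sgn u) with h1 | h1
      · exact h1
      · exfalso
        have h2 : sgn u ^ q = 1 := by
          rw [← map_pow, show u ^ q = 1 from orderOf_dvd_iff_pow_eq_one.mp (by
            rw [← Subgroup.orderOf_mk u hu, ← hFq]; exact orderOf_dvd_natCard _), map_one]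
        rw [h1, hqodd.neg_one_pow] at h2
        exact absurd h2 (by decide)
    haveI hG₀n : G₀.Normal := MonoidHom.normal_ker _
    have hG₀t : MulAction.IsMultiplyPretransitive G₀ Ω 2 := by
      haveI := normal_transitive hf h2t G₀ (fun e => by
        have : Nat.card F ≤ 1 := by
          rw [e] at hFG₀; exact le_of_le_of_eq (Subgroup.card_le_of_le hFG₀) Subgroup.card_bot
        omega)
      have hmov : ∀ {y z : Ω}, y ≠ z → ∃ k : G₀, k • y = a ∧ k • z = b := by
        intro y z hyz
        obtain ⟨k, hk⟩ := MulAction.exists_smul_eq G₀ y a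
        have hz : k • z ≠ a := fun h' => hyz (MulAction.injective k (hk.trans h'.symm))
        obtain ⟨u, hu, hub⟩ := kernel_transitive hab F hFle hFcard hFfix hz
        refine ⟨⟨u⁻¹, G₀.inv_mem (hFG₀ hu)⟩ * k, ?_, ?_⟩
        · rw [mul_smul, hk]
          show u⁻¹ • a = a
          rw [inv_smul_eq_iff]; exact (hFle hu).symm
        · rw [mul_smul]
          show u⁻¹ • (k • z) = b
          rw [inv_smul_eq_iff, hub]
      rw [MulAction.is_two_pretransitive_iff]
      intro y z y' z' hyz hyz'
      obtain ⟨k, hk1, hk2⟩ := hmov hyz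
      obtain ⟨k', hk1', hk2'⟩ := hmov hyz'
      exact ⟨k'⁻¹ * k, by rw [mul_smul, hk1, inv_smul_eq_iff, hk1'], by
        rw [mul_smul, hk2, inv_smul_eq_iff, hk2']⟩
    set D₀ : Subgroup G₀ := MulAction.stabilizer G₀ a ⊓ MulAction.stabilizer G₀ b with hD₀
    have hD₀card : 2 * Nat.card D₀ = q - 1 := by
      rw [← hDcard, ← Subgroup.card_mul_index (G₀.subgroupOf D),
        show (G₀.subgroupOf D).index = 2 from ?_, mul_comm]
      · refine congrArg (· * 2) (Nat.card_congr ⟨fun g => ⟨⟨(g.1 : G), g.2.1, g.2.2⟩, g.1.2⟩,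
          fun g => ⟨⟨(g.1 : G), g.2⟩, g.1.2.1, g.1.2.2⟩, fun _ => rfl, fun _ => rfl⟩)
      · rw [Subgroup.index_eq_two_iff]
        refine ⟨⟨h₀, hh₀D⟩⁻¹, fun g => ?_⟩
        rw [Subgroup.mem_subgroupOf, Subgroup.mem_subgroupOf]
        show Xor ((g : G) * h₀⁻¹ ∈ G₀) ((g : G) ∈ G₀)
        by_cases hg : (g : G) ∈ G₀
        · exact Or.inr ⟨hg, fun e => hh₀ (inv_inv h₀ ▸ G₀.inv_mem ((G₀.mul_mem_cancel_left hg).mp e))⟩
        · refine Or.inl ⟨?_, hg⟩
          have := hG₀n.conj_mem _ (hcoset g hg) h₀
          rwa [show h₀ * (h₀⁻¹ * (g : G)) * h₀⁻¹ = (g : G) * h₀⁻¹ by group] at this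
    have hZ₀ : IsZassenhausGroup G₀ Ω := by
      refine ⟨⟨fun {u v} h' => Subtype.ext (hf.eq_of_smul_eq_smul fun y => h' y)⟩, hG₀t,
        fun g u v w e1 e2 e3 f1 f2 f3 => Subtype.ext (h3 g u v w e1 e2 e3 f1 f2 f3), ?_, fun R hRn hRt => ?_⟩
      · obtain ⟨g, hg⟩ := (Subgroup.bot_or_exists_ne_one D₀).resolve_left fun e => by
          rw [e, Subgroup.card_bot] at hD₀card; omega
        exact ⟨g, hg.2, a, b, hab, hg.1.1, hg.1.2⟩
      · by_contra hh
        push Not at hh
        have hRs : ∀ c : Ω, ∀ r ∈ R, r • c = c → r = 1 := fun c r hr hrc =>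
          congrArg Subtype.val ((Subgroup.eq_bot_iff_forall _).mp (hh c) ⟨r, hr⟩ hrc)
        haveI := hRn
        refine hnoreg (R.map G₀.subtype) (regular_normal_map hf G₀ hG₀t hab R hRt hRs) ⟨fun c c' => ?_⟩ ?_
        · obtain ⟨⟨s, hs⟩, hsc⟩ := hRt.exists_smul_eq c c'
          exact ⟨⟨(s : G), s, hs, rfl⟩, hsc⟩
        · rintro c _ ⟨s, hs, rfl⟩ hsc
          rw [hRs c s hs hsc, map_one]
    set F₀ := F.subgroupOf G₀ with hF₀
    have hF₀a : F₀ ≤ MulAction.stabilizer G₀ a := fun u hu => hFle hu
    have hF₀card : Nat.card F₀ + 1 = Fintype.card Ω := by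
      rw [hF₀, Nat.card_congr (Subgroup.subgroupOfEquivOfLe hFG₀).toEquiv]; exact hFcard
    have hF₀fix : ∀ u ∈ F₀, u ≠ 1 → ∀ c : Ω, u • c = c → c = a := fun u hu hu1 c hc' =>
      hFfix u hu (fun e => hu1 (Subtype.ext e)) c hc'
    have hF₀c : ∀ u ∈ F₀, ∀ v ∈ F₀, u * v = v * u := fun u hu v hv => Subtype.ext (hFc _ hu _ hv)
    have hd₀ : Fintype.card Ω - 2 = 2 * Nat.card D₀ := by omega
    have hK2 : ringChar K ≠ 2 := by rwa [ringChar.eq K p]
    obtain ⟨C⟩ := exists_coord hZ₀ hab hd₀ F₀ hF₀a hF₀card hF₀fix hF₀c K (by rw [hK]; omega)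
    obtain ⟨t, c, hc0, -, hta, htb, hform⟩ :=
      exists_swap_formula hZ₀ hab hd₀ F₀ hF₀a hF₀card hF₀fix hF₀c K hK2 (by omega) C
    let e₀ : OnePoint K → Ω := fun z => Option.elim z a C.pt
    have he₀ : Function.Bijective e₀ := by
      refine ⟨?_, fun z => ?_⟩
      · rintro (_ | x) (_ | y) h'
        · rfl
        · exact absurd h'.symm (C.pt_ne y)
        · exact absurd h' (C.pt_ne x)
        · exact congrArg Option.some (C.pt_inj h')
      · by_cases hz : z = a
        · exact ⟨∞, hz.symm⟩
        · obtain ⟨x, hx⟩ := C.pt_surj z hz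
          exact ⟨(x : OnePoint K), hx⟩
    let e := Equiv.ofBijective e₀ he₀
    refine h e trivial ?_
    let Good : G → Prop := fun g => ∃ A : Matrix.ProjGenLinGroup (Fin 2) K, ∀ z, e (A • z) = g • e z
    have hmul : ∀ g k, Good g → Good k → Good (g * k) := by
      rintro g k ⟨A, hA⟩ ⟨B, hB⟩
      exact ⟨A * B, fun z => by rw [mul_smul, hA, hB, mul_smul]⟩
    have hinv : ∀ g, Good g → Good g⁻¹ := by
      rintro g ⟨A, hA⟩
      exact ⟨A⁻¹, fun z => by rw [eq_inv_smul_iff, ← hA, smul_inv_smul]⟩
    have haff : ∀ (g : G) (s w : K), s ≠ 0 → g • a = a → (∀ y, g • C.pt y = C.pt (s * y + w)) → Good g := by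
      intro g s w hs hga hgy
      refine ⟨Dickson.aff (Units.mk0 s hs) w, fun z => ?_⟩
      cases z with
      | infty => rw [Dickson.aff_infty]; exact hga.symm
      | coe x => rw [Dickson.aff_some]; exact (hgy x).symm
    have hGt : Good (t : G) := by
      refine ⟨Dickson.flip' (Units.mk0 c hc0), fun z => ?_⟩
      cases z with
      | infty => rw [Dickson.flip_infty]; exact C.pt_zero.trans hta.symm
      | coe x =>
        rcases eq_or_ne x 0 with rfl | hx
        · rw [Dickson.flip_zero]
          show a = (t : G) • C.pt 0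
          rw [C.pt_zero]; exact htb.symm
        · rw [Dickson.flip_some _ hx]; exact (hform x hx).symm
    have hG₀good : ∀ g : G₀, Good g := by
      intro g
      by_cases hg : g • a = a
      · obtain ⟨s, w, hs, -, hgy⟩ := C.affine g hg
        exact haff g s w hs hg hgy
      obtain ⟨y, hy⟩ := C.pt_surj _ hg
      have hga : (t * C.τ (-y) * g) • a = a := by
        rw [mul_smul, mul_smul, ← hy, C.τ_pt, neg_add_cancel, C.pt_zero, htb]
      obtain ⟨s, w, hs, -, hgy⟩ := C.affine _ hga
      have h1 : Good ((t * C.τ (-y) * g : G₀) : G) := haff _ s w hs hga hgy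
      have h2 : Good (C.τ (-y) : G) :=
        haff _ 1 (-y) one_ne_zero (C.τ_inf _) fun x => by rw [one_mul, add_comm]; exact C.τ_pt _ _
      have h4 := hmul _ _ (hinv _ (hmul _ _ hGt h2)) h1
      rwa [Subgroup.coe_mul, Subgroup.coe_mul, inv_mul_cancel_left] at h4
    -- the odd element is a scaling
    have hh₀a : h₀ • a = a := hh₀D.1
    have hh₀b : h₀ • b = b := hh₀D.2
    choose L hL using fun x => C.pt_surj (h₀ • C.pt x) fun e' =>
      C.pt_ne x (MulAction.injective h₀ (e'.trans hh₀a.symm))
    have hLadd : ∀ x y, L (x + y) = L x + L y := by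
      intro x y
      have hmemF : h₀ * (C.τ x : G) * h₀⁻¹ ∈ F := hFnorm h₀ hh₀a _ (C.τ_mem x)
      obtain ⟨x', hx'⟩ := C.τ_surj ⟨_, hFG₀ hmemF⟩ hmemF
      have hconj : ∀ z, C.τ x' • C.pt (L z) = C.pt (L (x + z)) := by
        intro z
        rw [hL z, hL (x + z)]
        show (C.τ x' : G) • h₀ • C.pt z = _
        rw [show (C.τ x' : G) = h₀ * (C.τ x : G) * h₀⁻¹ from congrArg Subtype.val hx', mul_smul, mul_smul,
          inv_smul_smul, ← C.τ_pt]
        rfl
      have hL0 : L 0 = 0 := C.pt_inj (by rw [hL, C.pt_zero, hh₀b])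
      have e0 := hconj 0
      rw [C.τ_pt, hL0, add_zero, add_zero] at e0
      have ey := hconj y
      rw [C.τ_pt] at ey
      rw [← C.pt_inj ey, C.pt_inj e0]
    have hLscale : ∀ s : K, s ≠ 0 → IsSquare s → ∀ x, L (s * x) * L 1 = L s * L x := by
      intro s hs hs'
      obtain ⟨k, hka, hkb, hk⟩ := C.scale s hs hs'
      let k' : G₀ := ⟨h₀ * (k : G) * h₀⁻¹, hG₀n.conj_mem _ k.2 _⟩
      have i1 : h₀⁻¹ • a = a := by rw [inv_smul_eq_iff, hh₀a]
      have i2 : h₀⁻¹ • b = b := by rw [inv_smul_eq_iff, hh₀b]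
      have hk'a : k' • a = a := by
        show (h₀ * (k : G) * h₀⁻¹) • a = a
        rw [mul_smul, mul_smul, i1, show (k : G) • a = a from hka, hh₀a]
      obtain ⟨σ, w, -, -, hk'⟩ := C.affine k' hk'a
      have hw : w = 0 := by
        have h0 := hk' 0
        rw [mul_zero, zero_add, C.pt_zero] at h0
        have h1 : k' • b = b := by
          show (h₀ * (k : G) * h₀⁻¹) • b = b
          rw [mul_smul, mul_smul, i2, show (k : G) • b = b from hkb, hh₀b]
        rw [h1] at h0
        exact (C.pt_inj (C.pt_zero.trans h0)).symm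
      have hσ : ∀ x, L (s * x) = σ * L x := fun x => C.pt_inj (by
        have h1 := hk' (L x)
        rw [hw, add_zero] at h1
        rw [← h1, hL, hL]
        show _ = (h₀ * (k : G) * h₀⁻¹) • h₀ • C.pt x
        rw [mul_smul, mul_smul, inv_smul_smul, show (k : G) • C.pt x = _ from hk x])
      intro x
      have h1 := hσ 1
      rw [mul_one] at h1
      rw [hσ x, h1]; ring
    have hL0 : L 0 = 0 := by
      have := hLadd 0 0
      rw [add_zero] at this
      exact left_eq_add.mp this
    have hLmul : ∀ s x, L (s * x) * L 1 = L s * L x := by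
      intro s x
      obtain ⟨u, v, huv⟩ : ∃ u v : K, u ^ 2 + v ^ 2 = s := by
        obtain ⟨u, v, huv⟩ := FiniteField.exists_root_sum_quadratic (f := (Polynomial.X : Polynomial K) ^ 2)
          (g := Polynomial.X ^ 2 - Polynomial.C s) (Polynomial.degree_X_pow 2)
          (Polynomial.degree_X_pow_sub_C two_pos s) (hK ▸ Nat.odd_iff.mp hqodd)
        simp only [Polynomial.eval_pow, Polynomial.eval_X, Polynomial.eval_sub, Polynomial.eval_C] at huv
        exact ⟨u, v, by linear_combination huv⟩
      have hsq : ∀ u : K, L (u ^ 2 * x) * L 1 = L (u ^ 2) * L x := fun u => by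
        by_cases hu : u = 0
        · simp [hu, hL0]
        · exact hLscale _ (pow_ne_zero 2 hu) ⟨u, pow_two u⟩ x
      rw [← huv, add_mul, hLadd, hLadd, add_mul, add_mul, hsq, hsq]
    have hL1 : L 1 ≠ 0 := fun e' => by
      have h1 := hL 1
      rw [e', C.pt_zero] at h1
      exact one_ne_zero (C.pt_inj (MulAction.injective h₀ (h1.symm.trans (show b = h₀ • C.pt 0 by rw [C.pt_zero, hh₀b]))))
    let φ : K →+* K :=
      { toFun := fun x => L x / L 1
        map_one' := div_self hL1
        map_mul' := fun x y => by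
          rw [div_mul_div_comm, ← hLmul, mul_div_mul_right _ _ hL1]
        map_zero' := by rw [hL0, zero_div]
        map_add' := fun x y => by rw [hLadd, add_div] }
    have hLφ : ∀ x, L x = L 1 * φ x := fun x => by
      show L x = L 1 * (L x / L 1); field_simp
    have hsqmem : h₀ * h₀ ∈ G₀ := by
      show sgn (h₀ * h₀) = 1
      have h2 : sgn h₀ = -1 := hh₀sgn
      rw [map_mul, h2]; rfl
    obtain ⟨s, w, -, -, hss⟩ := C.affine ⟨_, hsqmem⟩ (show (h₀ * h₀) • a = a by rw [mul_smul, hh₀a, hh₀a])
    have hLL : ∀ x, L (L x) = s * x + w := fun x => C.pt_inj (by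
      rw [← hss x, hL, hL]; exact (mul_smul _ _ _).symm)
    have hφφ : ∀ x, φ (φ x) = x := by
      have hw : w = 0 := by
        have := hLL 0
        rw [hL0, hL0, mul_zero, zero_add] at this
        exact this.symm
      have h1 : ∀ x, L 1 * φ (L 1) * φ (φ x) = s * x := fun x => by
        have := hLL x
        rw [hw, add_zero, hLφ x, hLφ (_ * _), map_mul] at this
        rw [← this]; ring
      have hs := h1 1
      rw [map_one, map_one, mul_one, mul_one] at hs
      intro x
      have h2 := h1 x
      rw [← hs] at h2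
      exact mul_left_cancel₀ (mul_ne_zero hL1 (by rw [map_ne_zero]; exact hL1)) h2
    have hφid : ∀ x, φ x = x := by
      by_contra hne
      push Not at hne
      obtain ⟨x₀, hx₀⟩ := hne
      set w₀ := x₀ - φ x₀ with hw₀def
      have hw₀ : φ w₀ = -w₀ := by rw [hw₀def, map_sub, hφφ]; ring
      have hw₀0 : w₀ ≠ 0 := sub_ne_zero.mpr (Ne.symm hx₀)
      let Fx := {x : K // φ x = x}
      have h2 : (2 : K) ≠ 0 := Ring.two_ne_zero hK2
      have hbij : Function.Bijective (fun uv : Fx × Fx => uv.1.1 + w₀ * uv.2.1) := by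
        constructor
        · rintro ⟨⟨u, hu⟩, v, hv⟩ ⟨⟨u', hu'⟩, v', hv'⟩ heq
          have heq' : u + w₀ * v = u' + w₀ * v' := heq
          have h1 := congrArg φ heq'
          rw [map_add, map_add, map_mul, map_mul, hu, hv, hu', hv', hw₀] at h1
          have e1 : u = u' := mul_left_cancel₀ h2 (by linear_combination h1 + heq')
          have e2 : v = v' := mul_left_cancel₀ (mul_ne_zero h2 hw₀0) (by linear_combination heq' - h1)
          exact Prod.ext (Subtype.ext e1) (Subtype.ext e2)
        · intro x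
          refine ⟨⟨⟨(x + φ x) / 2, ?_⟩, ⟨(x - φ x) / (2 * w₀), ?_⟩⟩, ?_⟩
          · rw [map_div₀, map_add, hφφ, map_ofNat, add_comm]
          · rw [map_div₀, map_sub, hφφ, map_mul, map_ofNat, hw₀]
            field_simp; ring
          · show (x + φ x) / 2 + w₀ * ((x - φ x) / (2 * w₀)) = x
            field_simp; ring
      have h1 := Nat.card_congr (Equiv.ofBijective _ hbij)
      rw [Nat.card_prod, Nat.card_eq_fintype_card (α := K), hK, ← hq] at h1
      obtain ⟨k, -, hk⟩ := (Nat.dvd_prime_pow hp).mp ⟨_, h1.symm⟩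
      rw [hk, ← pow_add] at h1
      have := Nat.pow_right_injective hp.two_le h1
      obtain ⟨j, hj⟩ := hfo
      omega
    have hh₀good : Good h₀ := haff h₀ (L 1) 0 hL1 hh₀a fun y => by
      rw [add_zero, ← hL, hLφ y, hφid]
    intro g
    by_cases hg : g ∈ G₀
    · exact hG₀good ⟨g, hg⟩
    · have := hmul _ _ hh₀good (hG₀good ⟨_, hcoset g hg⟩)
      rwa [mul_inv_cancel_left] at this
  -- the transport
  intro e _ hgood
  haveI : Finite (Matrix.ProjGenLinGroup (Fin 2) K) := Quotient.finite _
  choose A hA using hgood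
  let φ : G →* Matrix.ProjGenLinGroup (Fin 2) K :=
    MonoidHom.mk' A fun g k => hmu (Equiv.ext fun z => e.injective (by
      show e (A (g * k) • z) = e ((A g * A k) • z)
      rw [hA, mul_smul, mul_smul, hA, hA]))
  have hinj : Function.Injective φ := fun g k hgk => hf.eq_of_smul_eq_smul fun y => by
    have h1 := hA g (e.symm y)
    rw [show A g = A k from hgk, hA k, e.apply_symm_apply] at h1
    exact h1.symm
  exact ⟨MulEquiv.ofBijective φ ((Nat.bijective_iff_injective_and_card φ).mpr ⟨hinj, by rw [hGcard, hPGL]⟩)⟩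

end Cfsg.Lib.Perm.ZasAbelian
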