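import Cfsg.Agent.Lib.Perm.ZasAbelian.Reduce
import Mathlib

/-!
# Swapping elements when the two-point stabilizer has two orbits on the kernel
-/

set_option autoImplicit false
set_option linter.style.haveILetI false

namespace Cfsg.Lib.Perm.ZasAbelian

open Cfsg Cfsg.Lib.Char

variable {G Ω : Type*} [Group G] [Finite G] [MulAction G Ω] [Fintype Ω]
  (hZ : IsZassenhausGroup G Ω) {a b : Ω} (hab : a ≠ b)
  (hd : Fintype.card Ω - 2 = 2 * Nat.card ↥(MulAction.stabilizer G a ⊓ MulAction.stabilizer G b : Subgroup G))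
  (H : Subgroup G)
  (hHa : H ≤ MulAction.stabilizer G a) (hHcard : Nat.card H + 1 = Fintype.card Ω)
  (hHfix : ∀ u ∈ H, u ≠ 1 → ∀ c : Ω, u • c = c → c = a)
  (hHc : ∀ x ∈ H, ∀ y ∈ H, x * y = y * x)

local notation "DD" => (MulAction.stabilizer G a ⊓ MulAction.stabilizer G b : Subgroup G)

omit [Finite G] in
include hZ in
theorem fixed_card_two {g : G} (hg : g ≠ 1) {c c' : Ω} (hcc : c ≠ c') (hc : g • c = c) (hc' : g • c' = c') :
    ∀ y : Ω, g • y = y ↔ y = c ∨ y = c' := by
  intro y
  refine ⟨fun hy => ?_, ?_⟩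
  · by_contra hh
    push Not at hh
    exact hg (hZ.2.2.1 g c c' y hcc hh.2.symm hh.1.symm hc hc' hy)
  · rintro (rfl | rfl)
    exacts [hc, hc']

include hZ hab hd hHa hHcard hHfix hHc

/-- Every element interchanging the two points is an involution. -/
theorem swap_sq {g : G} (hga : g • a = b) (hgb : g • b = a) : g * g = 1 := by
  classical
  haveI := Fintype.ofFinite G
  obtain ⟨e, he⟩ : ∃ e, Nat.card DD = e := ⟨_, rfl⟩
  rw [he] at hd
  have h3 := zas_two_lt_card hZ
  rcases Nat.even_or_odd e with heven | hodd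
  · -- count the involutions with two fixed points
    let Z := Finset.univ.filter fun z : G => orderOf z = 2 ∧ ∃ c c' : Ω, c ≠ c' ∧ z • c = c ∧ z • c' = c'
    let P : Finset (Ω × Ω) := (Finset.univ : Finset Ω).offDiag
    let Sw : Ω × Ω → Finset G := fun xy => Z.filter fun z => z • xy.1 = xy.2
    have hfix : ∀ xy ∈ P, ∃ z ∈ Z, z • xy.1 = xy.1 ∧ z • xy.2 = xy.2 := by
      intro xy hxy
      obtain ⟨-, -, hne⟩ := Finset.mem_offDiag.mp hxy
      haveI : Fact (Nat.Prime 2) := ⟨Nat.prime_two⟩
      obtain ⟨z, hz⟩ := exists_prime_orderOf_dvd_card'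
        (G := ↥(MulAction.stabilizer G xy.1 ⊓ MulAction.stabilizer G xy.2 : Subgroup G)) 2
        (by rw [zas_card_pair hZ hab hne, he]; exact heven.two_dvd)
      rw [← Subgroup.orderOf_coe] at hz
      exact ⟨z, Finset.mem_filter.mpr ⟨Finset.mem_univ _, hz, _, _, hne, z.2.1, z.2.2⟩, z.2.1, z.2.2⟩
    choose f hfZ hf1 hf2 using hfix
    have hZcard : P.card ≤ 2 * Z.card := by
      rw [← Finset.card_attach]
      refine le_trans (Finset.card_le_mul_card_image (f := fun xy : {x // x ∈ P} => f xy.1 xy.2) P.attach 2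
        fun z hz => ?_) (Nat.mul_le_mul_left 2 (Finset.card_le_card fun z hz => ?_))
      · obtain ⟨-, hz2, c, c', hcc, hc, hc'⟩ := Finset.mem_filter.mp (show z ∈ Z by
          obtain ⟨xy, -, rfl⟩ := Finset.mem_image.mp hz; exact hfZ _ _)
        have hz1 : z ≠ 1 := fun h' => by rw [h', orderOf_one] at hz2; omega
        have hm := fixed_card_two hZ hz1 hcc hc hc'
        refine le_trans (Finset.card_le_card_of_injOn (fun xy => xy.1) (t := {(c, c'), (c', c)})
          (fun xy hxy => ?_) (fun _ _ _ _ h' => Subtype.ext h')) Finset.card_le_two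
        obtain ⟨-, hxz⟩ := Finset.mem_filter.mp hxy
        obtain ⟨-, -, hne⟩ := Finset.mem_offDiag.mp xy.2
        have e1 := (hm xy.1.1).mp (hxz ▸ hf1 _ xy.2)
        have e2 := (hm xy.1.2).mp (hxz ▸ hf2 _ xy.2)
        simp only [Finset.coe_insert, Finset.coe_singleton, Set.mem_insert_iff, Set.mem_singleton_iff]
        rcases e1 with e1 | e1 <;> rcases e2 with e2 | e2
        · exact absurd (e1.trans e2.symm) hne
        · exact Or.inl (Prod.ext e1 e2)
        · exact Or.inr (Prod.ext e1 e2)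
        · exact absurd (e1.trans e2.symm) hne
      · obtain ⟨xy, -, rfl⟩ := Finset.mem_image.mp hz
        exact hfZ _ _
    -- all pairs look alike
    have hconst : ∀ xy ∈ P, (Sw xy).card = (Sw (a, b)).card := by
      intro xy hxy
      obtain ⟨-, -, hne⟩ := Finset.mem_offDiag.mp hxy
      obtain ⟨k, hka, hkb⟩ := MulAction.is_two_pretransitive_iff.1 hZ.2.1 hne hab
      refine Finset.card_equiv (MulAut.conj k).toEquiv fun z => ?_
      simp only [Sw, Z, Finset.mem_filter, Finset.mem_univ, true_and, MulEquiv.toEquiv_eq_coe,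
        EquivLike.coe_coe, MulAut.conj_apply]
      have ho : orderOf (k * z * k⁻¹) = orderOf z := by
        rw [← MulAut.conj_apply]; exact orderOf_injective (MulAut.conj k).toMonoidHom (MulAut.conj k).injective z
      have hs : ∀ c c' : Ω, z • c = c' ↔ (k * z * k⁻¹) • (k • c) = k • c' := by
        intro c c'
        rw [mul_smul, mul_smul, inv_smul_smul, smul_left_cancel_iff]
      rw [ho]
      refine and_congr (and_congr Iff.rfl ⟨?_, ?_⟩) ?_
      · rintro ⟨c, c', hcc, h1, h2⟩
        exact ⟨k • c, k • c', fun h' => hcc (MulAction.injective k h'), (hs c c).mp h1, (hs c' c').mp h2⟩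
      · rintro ⟨c, c', hcc, h1, h2⟩
        refine ⟨k⁻¹ • c, k⁻¹ • c', fun h' => hcc (MulAction.injective _ h'), ?_, ?_⟩
        · rw [hs, smul_inv_smul]; exact h1
        · rw [hs, smul_inv_smul]; exact h2
      · rw [hs, hka, hkb]
    have hdouble : ∑ xy ∈ P, (Sw xy).card = Z.card * (Fintype.card Ω - 2) := by
      simp only [Sw, Finset.card_filter]
      rw [Finset.sum_comm]
      refine Finset.sum_const_nat fun z hz => ?_
      rw [← Finset.card_filter]
      obtain ⟨-, hz2, c, c', hcc, hc, hc'⟩ := Finset.mem_filter.mp hz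
      have hz1 : z ≠ 1 := fun h' => by rw [h', orderOf_one] at hz2; omega
      have hm := fixed_card_two hZ hz1 hcc hc hc'
      have hbij : (P.filter fun xy => z • xy.1 = xy.2).card =
          ((Finset.univ : Finset Ω).filter fun y => z • y ≠ y).card := by
        refine Finset.card_bij' (fun xy _ => xy.1) (fun y _ => (y, z • y)) ?_ ?_ ?_ ?_
        · intro xy hxy
          obtain ⟨hxy, h'⟩ := Finset.mem_filter.mp hxy
          exact Finset.mem_filter.mpr ⟨Finset.mem_univ _, fun e' => (Finset.mem_offDiag.mp hxy).2.2 (e'.symm.trans h')⟩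
        · intro y hy
          exact Finset.mem_filter.mpr ⟨Finset.mem_offDiag.mpr ⟨Finset.mem_univ _, Finset.mem_univ _,
            fun e' => (Finset.mem_filter.mp hy).2 e'.symm⟩, rfl⟩
        · intro xy hxy
          exact Prod.ext rfl (Finset.mem_filter.mp hxy).2
        · intro y _; rfl
      rw [hbij]
      have hfix2 : ((Finset.univ : Finset Ω).filter fun y => z • y = y) = {c, c'} := by
        ext y; simp [hm]
      have := Finset.card_filter_add_card_filter_not (s := (Finset.univ : Finset Ω)) (fun y => z • y = y)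
      rw [hfix2, Finset.card_pair hcc, Finset.card_univ] at this
      simp only [ne_eq] at this ⊢
      omega
    rw [Finset.sum_congr rfl hconst, Finset.sum_const, smul_eq_mul, hd] at hdouble
    have hP : 0 < P.card := Finset.card_pos.mpr ⟨(a, b), by simp [P, hab]⟩
    have hge : e ≤ (Sw (a, b)).card := by
      refine Nat.le_of_mul_le_mul_left ?_ hP
      calc P.card * e ≤ 2 * Z.card * e := Nat.mul_le_mul_right _ hZcard
        _ = P.card * (Sw (a, b)).card := by rw [hdouble]; ring
    let C := Finset.univ.filter fun z : G => z • a = b ∧ z • b = a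
    have hC : C.card = e := by
      rw [← he, ← Fintype.card_subtype, ← Nat.card_eq_fintype_card]
      refine Nat.card_congr ⟨fun z => ⟨g⁻¹ * z.1, show (g⁻¹ * z.1) • a = a by
          rw [mul_smul, z.2.1, inv_smul_eq_iff, hga], show (g⁻¹ * z.1) • b = b by
          rw [mul_smul, z.2.2, inv_smul_eq_iff, hgb]⟩,
        fun x => ⟨g * x.1, by rw [mul_smul, show (x : G) • a = a from x.2.1, hga],
          by rw [mul_smul, show (x : G) • b = b from x.2.2, hgb]⟩,
        fun z => Subtype.ext (by simp), fun x => Subtype.ext (by simp)⟩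
    have hsub : Sw (a, b) ⊆ C := by
      intro z hz
      obtain ⟨hzZ, hza⟩ := Finset.mem_filter.mp hz
      have hz2 := (Finset.mem_filter.mp hzZ).2.1
      refine Finset.mem_filter.mpr ⟨Finset.mem_univ _, hza, ?_⟩
      have hzz : z * z = 1 := by rw [← pow_two, ← hz2, pow_orderOf_eq_one]
      rw [← show z • a = b from hza, ← mul_smul, hzz, one_smul]
    have hgC : g ∈ C := Finset.mem_filter.mpr ⟨Finset.mem_univ _, hga, hgb⟩
    rw [← Finset.eq_of_subset_of_card_le hsub (by omega)] at hgC
    have hg2 := (Finset.mem_filter.mp (Finset.mem_filter.mp hgC).1).2.1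
    rw [← pow_two, ← hg2, pow_orderOf_eq_one]
  · haveI := (bound hZ hab H hHa hHcard hHfix hHc (he ▸ hodd)).2 (by rw [he]; exact hd)
    obtain ⟨s, hs, hsa, hsb⟩ := (Cfsg.Agent.S0740.result hZ hab).1
    have h2 : orderOf g = 2 := ((zas_swap_iff hZ hab (he ▸ hodd) hs hsa hsb g).mpr ⟨s⁻¹ * g,
      ⟨show (s⁻¹ * g) • a = a by rw [mul_smul, hga, inv_smul_eq_iff, hsa],
       show (s⁻¹ * g) • b = b by rw [mul_smul, hgb, inv_smul_eq_iff, hsb]⟩, by group⟩).1
    rw [← pow_two, ← h2, pow_orderOf_eq_one]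

/-- A swap inverts the two-point stabilizer. -/
theorem swap_inverts {g : G} (hga : g • a = b) (hgb : g • b = a) {x : G} (hx : x ∈ DD) :
    g * x * g⁻¹ = x⁻¹ := by
  have hxa : x • a = a := hx.1
  have hxb : x • b = b := hx.2
  have h1 := swap_sq hZ hab hd H hHa hHcard hHfix hHc (g := g * x)
    (by rw [mul_smul, hxa, hga]) (by rw [mul_smul, hxb, hgb])
  rw [inv_eq_of_mul_eq_one_right (swap_sq hZ hab hd H hHa hHcard hHfix hHc hga hgb)]
  exact eq_inv_of_mul_eq_one_left (by rw [← h1]; group)

theorem DD_comm {x y : G} (hx : x ∈ DD) (hy : y ∈ DD) : x * y = y * x := by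
  obtain ⟨s, -, hsa, hsb⟩ := (Cfsg.Agent.S0740.result hZ hab).1
  have h1 := swap_inverts hZ hab hd H hHa hHcard hHfix hHc hsa hsb ((DD).mul_mem hx hy)
  rw [show s * (x * y) * s⁻¹ = s * x * s⁻¹ * (s * y * s⁻¹) by group,
    swap_inverts hZ hab hd H hHa hHcard hHfix hHc hsa hsb hx,
    swap_inverts hZ hab hd H hHa hHcard hHfix hHc hsa hsb hy, mul_inv_rev] at h1
  calc x * y = (y⁻¹ * x⁻¹)⁻¹ := by group
    _ = y * x := by rw [← h1]; group

end Cfsg.Lib.Perm.ZasAbelian
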